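import Cfsg.Agent.SolvStruct.AltFiveRadical.Radical

/-!
The model as a central product of a quaternion and a dihedral group of order eight.
-/

set_option autoImplicit false
set_option linter.unusedSectionVars false
set_option linter.style.haveILetI false
set_option maxRecDepth 8000

namespace Cfsg.Lib.AltFiveRadical

open Subgroup
open Cfsg.Lib.ExtraMinusFive (Cl)

/-- value of the quaternion factor -/
def quatFun : QuaternionGroup 2 → Cl
  | .a i => (Cl.t 0 * Cl.t 1) ^ i.val
  | .xa i => Cl.t 0 * Cl.t 2 * (Cl.t 0 * Cl.t 1) ^ i.val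

/-- value of the dihedral factor -/
def dihFun : DihedralGroup 4 → Cl
  | .r i => (Cl.t 3 * Cl.t 4) ^ i.val
  | .sr i => Cl.t 3 * (Cl.t 3 * Cl.t 4) ^ i.val

theorem quatFun_mul : ∀ x y, quatFun (x * y) = quatFun x * quatFun y := by decide +kernel

theorem dihFun_mul : ∀ x y, dihFun (x * y) = dihFun x * dihFun y := by decide +kernel

/-- the quaternion factor -/
def quat : QuaternionGroup 2 →* Cl := MonoidHom.mk' quatFun quatFun_mul

/-- the dihedral factor -/
def dih : DihedralGroup 4 →* Cl := MonoidHom.mk' dihFun dihFun_mul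

theorem quat_one : ∀ x, quatFun x = 1 → x = 1 := by decide +kernel

theorem dih_one : ∀ x, dihFun x = 1 → x = 1 := by decide +kernel

theorem factors_commute : ∀ x y, quatFun x * dihFun y = dihFun y * quatFun x := by decide +kernel

theorem factors_cover : ∀ g : Cl, ∃ x y, g = quatFun x * dihFun y := by decide +kernel

theorem factors_inf : ∀ x y, quatFun x = dihFun y → quatFun x = 1 ∨ quatFun x = Cl.zz := by decide +kernel

theorem zz_mem : (∃ x, quatFun x = Cl.zz) ∧ ∃ y, dihFun y = Cl.zz := by decide +kernel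

theorem model_split {P : Type*} [Group P] (e : Cl ≃* P) : Nat.card P = 32 ∧ ∃ A B : Subgroup P,
    Nonempty (↥A ≃* QuaternionGroup 2) ∧ Nonempty (↥B ≃* DihedralGroup 4) ∧
      (∀ a ∈ A, ∀ b ∈ B, a * b = b * a) ∧ A ⊔ B = ⊤ ∧ A ⊓ B = Subgroup.center P := by
  refine ⟨?_, ((e.toMonoidHom).comp quat).range, ((e.toMonoidHom).comp dih).range, ?_, ?_, ?_, ?_, ?_⟩
  · rw [← Nat.card_congr e.toEquiv, Nat.card_eq_fintype_card]
    decide
  · exact ⟨(MonoidHom.ofInjective (e.injective.comp
      ((injective_iff_map_eq_one quat).2 quat_one))).symm⟩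
  · exact ⟨(MonoidHom.ofInjective (e.injective.comp
      ((injective_iff_map_eq_one dih).2 dih_one))).symm⟩
  · rintro _ ⟨x, rfl⟩ _ ⟨y, rfl⟩
    simp only [MonoidHom.comp_apply]
    rw [← map_mul, ← map_mul]
    exact congrArg e (factors_commute x y)
  · rw [eq_top_iff]
    intro p _
    obtain ⟨g, rfl⟩ := e.surjective p
    obtain ⟨x, y, rfl⟩ := factors_cover g
    rw [map_mul]
    exact mul_mem (mem_sup_left ⟨x, rfl⟩) (mem_sup_right ⟨y, rfl⟩)
  · ext p
    obtain ⟨g, rfl⟩ := e.surjective p
    rw [Subgroup.mem_inf, mem_center_iff]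
    constructor
    · rintro ⟨⟨x, hx⟩, ⟨y, hy⟩⟩ h
      obtain ⟨k, rfl⟩ := e.surjective h
      have h1 : quatFun x = dihFun y := e.injective (hx.trans hy.symm)
      rw [← map_mul, ← map_mul, ← e.injective hx]
      refine congrArg e ?_
      change k * quatFun x = quatFun x * k
      rcases factors_inf x y h1 with h2 | h2 <;> rw [h2]
      · rw [mul_one, one_mul]
      · exact (Cl.zz_mul k).symm
    · intro h
      obtain ⟨⟨x, hx⟩, ⟨y, hy⟩⟩ := zz_mem
      rcases Cl.center_eq g (fun k => e.injective (by rw [map_mul, map_mul]; exact (h (e k)).symm)) with rfl | rfl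
      · rw [map_one]; exact ⟨one_mem _, one_mem _⟩
      · exact ⟨⟨x, congrArg e hx⟩, ⟨y, congrArg e hy⟩⟩

theorem sectional_injective {G H : Type*} [Group G] [Group H] {k : ℕ} (f : H →* G) (hf : Function.Injective f)
    (hr : Cfsg.SectionalPRankLE 2 k G) : Cfsg.SectionalPRankLE 2 k H := by
  intro U N hN A hA hexp
  let e : U ≃* U.map f := U.equivMapOfInjective f hf
  set N' := N.map e.toMonoidHom
  haveI : N'.Normal := Normal.map hN _ e.surjective
  let q : U ⧸ N ≃* U.map f ⧸ N' := QuotientGroup.congr N N' e rfl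
  have h := hr (U.map f) N' (A.map q.toMonoidHom) (Subgroup.map_isMulCommutative A _) (by
    rintro _ ⟨a, ha, rfl⟩
    rw [← map_pow, hexp a ha, map_one])
  rwa [card_map_of_injective (f := q.toMonoidHom) q.injective] at h

end Cfsg.Lib.AltFiveRadical
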