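import Cfsg.Agent.SolvStruct.AltFiveRadical.Layers
import Cfsg.Agent.PGroups.ExtraMinusFive

/-!
The 2-radical of an extension by the alternating group of degree five of sectional rank four.
-/

set_option autoImplicit false
set_option linter.unusedSectionVars false
set_option linter.style.haveILetI false
set_option maxRecDepth 4000

namespace Cfsg.Lib.AltFiveRadical

open Subgroup
open Cfsg.Lib.SymSixSection (fix inv_self' eq_of_mul_one)
open Cfsg.Lib.ExtraMinusFive (Cl Quad extend extend_t extend_zz)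

theorem inverting_data : ∃ f t c : A5, f ^ 5 = 1 ∧ f ≠ 1 ∧ t * t = 1 ∧ t * f * t = f⁻¹ ∧ c * t * c⁻¹ = t * f := by
  decide +kernel

theorem cl_facts : (Cl.t 0 * Cl.t 1) * (Cl.t 0 * Cl.t 1) = Cl.zz ∧
    Cl.t 1 * Cl.t 0 * (Cl.t 1)⁻¹ * (Cl.t 0)⁻¹ = Cl.zz ∧
    (Cl.t 0 * Cl.t 1 * Cl.t 2) * Cl.t 0 = Cl.t 0 * (Cl.t 0 * Cl.t 1 * Cl.t 2) ∧
    (Cl.t 0 * Cl.t 1 * Cl.t 2) * Cl.t 1 = Cl.t 1 * (Cl.t 0 * Cl.t 1 * Cl.t 2) ∧
    Cl.t 0 * Cl.t 1 * Cl.t 2 ≠ 1 ∧ Cl.t 0 * Cl.t 1 * Cl.t 2 ≠ Cl.zz := by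
  decide

/-- an involution of a module of order sixteen without common fixed points with a conjugate -/
theorem half {W : Type*} [CommGroup W] [Finite W] (hexp : ∀ a : W, a * a = 1) (hW : Nat.card W = 16) (s : MulAut W)
    (hs : s * s = 1) (c : MulAut W) (h : fix s ⊓ fix (c * s * c⁻¹) = ⊥) :
    Nat.card (s.toMonoidHom * MonoidHom.id W).range = 4 := by
  set δ := s.toMonoidHom * MonoidHom.id W
  have hk : δ.ker = fix s := by
    ext a
    show s a * a = 1 ↔ s a = a
    exact ⟨fun e => (eq_of_mul_one hexp e).symm, fun e => by rw [e, hexp]⟩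
  have hle : δ.range ≤ fix s := by
    rintro _ ⟨a, rfl⟩
    show s (s a * a) = s a * a
    rw [map_mul, ← MulAut.mul_apply, hs, MulAut.one_apply, mul_comm]
  have hmul : Nat.card (fix s) * Nat.card δ.range = 16 := by
    rw [← hk, ← Subgroup.index_ker, Subgroup.card_mul_index, hW]
  have hsq : Nat.card (fix s) * Nat.card (fix s) ≤ 16 := by
    have h1 : Nat.card (fix (c * s * c⁻¹)) = Nat.card (fix s) := Cfsg.Lib.SymSixSection.fix_conj_card c s
    let m : fix s × fix (c * s * c⁻¹) → W := fun x => x.1.1 * x.2.1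
    have hm : Function.Injective m := by
      rintro ⟨⟨a, ha⟩, ⟨b, hb⟩⟩ ⟨⟨a', ha'⟩, ⟨b', hb'⟩⟩ (e : a * b = a' * b')
      have e1 : a'⁻¹ * a = b' * b⁻¹ := by rw [eq_mul_inv_iff_mul_eq, mul_assoc, e, inv_mul_cancel_left]
      have e2 : a'⁻¹ * a ∈ fix s ⊓ fix (c * s * c⁻¹) :=
        Subgroup.mem_inf.2 ⟨mul_mem (inv_mem ha') ha, by rw [e1]; exact mul_mem hb' (inv_mem hb)⟩
      rw [h, Subgroup.mem_bot] at e2
      obtain rfl : a = a' := (inv_mul_eq_one.1 e2).symm
      exact Prod.ext rfl (Subtype.ext (mul_left_cancel e))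
    have := Nat.card_le_card_of_injective m hm
    rwa [Nat.card_prod, h1, hW] at this
  have hr : Nat.card δ.range ≤ Nat.card (fix s) := Nat.card_le_card_of_injective _ (Subgroup.inclusion_injective hle)
  nlinarith

theorem delta_apply {W : Type*} [CommGroup W] (s : MulAut W) (a : W) :
    (s.toMonoidHom * MonoidHom.id W) a = s a * a := rfl

theorem inf_fix_eq_bot {W : Type*} [CommGroup W] [Finite W] (hexp : ∀ a : W, a * a = 1) (hW : Nat.card W ≤ 16)
    {ρ : A5 →* MulAut W} (hρ : Function.Injective ρ) {f t c : A5} (hf : f ^ 5 = 1) (hf1 : f ≠ 1)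
    (hc : c * t * c⁻¹ = t * f) : fix (ρ t) ⊓ fix (ρ c * ρ t * (ρ c)⁻¹) = ⊥ := by
  rw [eq_bot_iff, ← map_mul, ← map_inv, ← map_mul, hc, ← (five_facts ρ hexp hW hρ hf hf1).2]
  intro v hv
  obtain ⟨h1, h2⟩ := Subgroup.mem_inf.1 hv
  show ρ f v = v
  have h1' : ρ t v = v := h1
  have h2' : ρ (t * f) v = v := h2
  rw [map_mul, MulAut.mul_apply] at h2'
  exact (ρ t).injective (h2'.trans h1'.symm)

universe u
variable {Y : Type u} [Group Y] [Finite Y] {π : Y →* A5} {P : Subgroup Y}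

theorem no_homocyclic (E : Setup π P) {R : Subgroup Y} [R.Normal] {V : Type u} [CommGroup V] [Finite V]
    (L : Layer π P R V) (hR : R ≤ P) (hsq : ∀ a ∈ P, a * a ∈ R) (hab : ∀ a ∈ P, ∀ b ∈ P, a * b = b * a)
    (hexp : ∀ r ∈ R, r * r = 1) (hR16 : Nat.card R = 16) (τR : A5 →* MulAut R)
    (hτ : ∀ (y : Y) (r : R), ((τR (π y) r : R) : Y) = y * r * y⁻¹) (hinj : Function.Injective τR) : False := by
  classical
  haveI := E.normal
  letI : CommGroup R :=
    { (inferInstance : Group R) with mul_comm := fun a b => Subtype.ext (hab a.1 (hR a.2) b.1 (hR b.2)) }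
  have hexpR : ∀ r : R, r * r = 1 := fun r => Subtype.ext (hexp r r.2)
  obtain ⟨f, t, c, hf, hf1, ht, htf, hct⟩ := inverting_data
  obtain ⟨fl, hfl⟩ := E.surj f
  obtain ⟨y, hy⟩ := E.surj t
  have hfree : ∀ b ∈ P, fl * b * fl⁻¹ = b → b = 1 := by
    intro b hb e
    have h1 : L.p ⟨b, hb⟩ ∈ fix (L.ρ f) := by
      show L.ρ f _ = _
      rw [← hfl]
      exact L.equiv fl ⟨b, hb⟩ ⟨b, hb⟩ e.symm
    rw [(five_facts L.ρ L.exp L.le16 L.inj hf hf1).2, Subgroup.mem_bot, L.ker] at h1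
    have h2 : (⟨b, h1⟩ : R) ∈ fix (τR f) := by
      show τR f _ = _
      rw [← hfl]
      exact Subtype.ext ((hτ fl _).trans e)
    rw [(five_facts τR hexpR hR16.le hinj hf hf1).2, Subgroup.mem_bot] at h2
    exact congrArg Subtype.val h2
  let ψ : P → P := fun b => ⟨b * (fl⁻¹ * (b : Y)⁻¹ * fl), mul_mem b.2 (by
    have h := Normal.conj_mem E.normal _ (inv_mem b.2) fl⁻¹
    rwa [inv_inv] at h)⟩
  have hψ : Function.Injective ψ := by
    intro a b e
    have e' : (a : Y) * (fl⁻¹ * (a : Y)⁻¹ * fl) = b * (fl⁻¹ * (b : Y)⁻¹ * fl) := congrArg Subtype.val e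
    have hd : (a : Y) * (b : Y)⁻¹ = 1 := by
      refine hfree _ (mul_mem a.2 (inv_mem b.2)) ?_
      have hm : fl⁻¹ * (b : Y)⁻¹ * fl ∈ P := by
        have h := Normal.conj_mem E.normal _ (inv_mem b.2) fl⁻¹
        rwa [inv_inv] at h
      have e2 : (a : Y) * (b : Y)⁻¹ = fl⁻¹ * ((a : Y) * (b : Y)⁻¹) * fl := by
        calc (a : Y) * (b : Y)⁻¹ = (b : Y)⁻¹ * a := hab _ a.2 _ (inv_mem b.2)
          _ = (b : Y)⁻¹ * ((a : Y) * (fl⁻¹ * (a : Y)⁻¹ * fl)) * (fl⁻¹ * a * fl) := by group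
          _ = (b : Y)⁻¹ * ((b : Y) * (fl⁻¹ * (b : Y)⁻¹ * fl)) * (fl⁻¹ * a * fl) := by rw [e']
          _ = fl⁻¹ * ((b : Y)⁻¹ * a) * fl := by group
          _ = _ := by rw [hab _ (inv_mem b.2) _ a.2]
      conv_lhs => rw [e2]
      group
    exact Subtype.ext (mul_inv_eq_one.1 hd)
  have hw : y * fl * y⁻¹ * fl ∈ P := E.mem.2 (by
    rw [map_mul, map_mul, map_mul, map_inv, hy, hfl, inv_eq_of_mul_eq_one_left ht, htf, inv_mul_cancel])
  obtain ⟨b, hb⟩ := (Finite.injective_iff_surjective.1 hψ) ⟨_, inv_mem hw⟩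
  have hb' : (b : Y) * (fl⁻¹ * (b : Y)⁻¹ * fl) = (y * fl * y⁻¹ * fl)⁻¹ := congrArg Subtype.val hb
  set τ := (b : Y) * y
  have hπτ : π τ = t := by rw [map_mul, E.mem.1 b.2, hy, one_mul]
  have hτf : τ * fl * τ⁻¹ = fl⁻¹ := by
    calc τ * fl * τ⁻¹ = (b : Y) * (y * fl * y⁻¹ * fl) * fl⁻¹ * (b : Y)⁻¹ := by simp only [τ]; group
      _ = (y * fl * y⁻¹ * fl) * ((b : Y) * (fl⁻¹ * (b : Y)⁻¹ * fl)) * fl⁻¹ := by rw [hab _ b.2 _ hw]; group
      _ = fl⁻¹ := by rw [hb', mul_inv_cancel, one_mul]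
  have hτ2 : τ * τ = 1 := by
    refine hfree _ (E.mem.2 (by rw [map_mul, hπτ, ht])) ?_
    have e : τ * τ * fl * (τ * τ)⁻¹ = fl := by
      calc _ = τ * (τ * fl * τ⁻¹) * τ⁻¹ := by group
        _ = τ * fl⁻¹ * τ⁻¹ := by rw [hτf]
        _ = (τ * fl * τ⁻¹)⁻¹ := by group
        _ = fl := by rw [hτf, inv_inv]
    have e2 : τ * τ * fl = fl * (τ * τ) := mul_inv_eq_iff_eq_mul.1 e
    rw [← e2, mul_inv_cancel_right]
  have hτi : τ⁻¹ = τ := inv_eq_of_mul_eq_one_left hτ2
  -- the two modules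
  have hV16 := L.card_V L.le16
  have hδV : Nat.card ((L.ρ t).toMonoidHom * MonoidHom.id V).range = 4 :=
    half L.exp hV16 _ (by rw [← map_mul, ht, map_one]) (L.ρ c) (inf_fix_eq_bot L.exp L.le16 L.inj hf hf1 hct)
  have hδR : Nat.card ((τR t).toMonoidHom * MonoidHom.id R).range = 4 :=
    half hexpR hR16 _ (by rw [← map_mul, ht, map_one]) (τR c) (inf_fix_eq_bot hexpR hR16.le hinj hf hf1 hct)
  set K := L.pre ((L.ρ t).toMonoidHom * MonoidHom.id V).range
  set N := ((τR t).toMonoidHom * MonoidHom.id R).range.map R.subtype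
  have hKc : Nat.card K = 64 := by rw [L.card_pre hR, hδV, hR16]
  have hNc : Nat.card N = 4 := by rw [card_map_of_injective R.subtype_injective, hδR]
  have memN : ∀ r ∈ R, τ * r * τ⁻¹ * r ∈ N := fun r hr => by
    refine ⟨_, ⟨⟨r, hr⟩, rfl⟩, ?_⟩
    rw [delta_apply, ← hπτ, Subgroup.coe_subtype, Subgroup.coe_mul, hτ]
  have hNR : N ≤ R := Subgroup.map_subtype_le _
  have hRK : R ≤ K := fun r hr => (L.mem_pre ⟨r, hR hr⟩).2 (by
    rw [(L.ker ⟨r, hR hr⟩).2 hr]; exact one_mem _)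
  have hKP : K ≤ P := L.pre_le _
  have hK : ∀ k ∈ K, k * k ∈ N ∧ τ * k * τ⁻¹ * k ∈ N := by
    intro k hk
    obtain ⟨v, hv⟩ := (L.mem_pre ⟨k, hKP hk⟩).1 hk
    obtain ⟨⟨a, ha⟩, rfl⟩ := L.surj v
    rw [delta_apply, ← hπτ, L.equiv τ ⟨a, ha⟩ ⟨_, Normal.conj_mem E.normal a ha τ⟩ rfl] at hv
    set d := τ * a * τ⁻¹ * a⁻¹ with hd
    have hdP : d ∈ P := mul_mem (Normal.conj_mem E.normal a ha τ) (inv_mem ha)
    have hp : L.p ⟨d, hdP⟩ = L.p ⟨k, hKP hk⟩ := by
      have e : (⟨d, hdP⟩ : P) = ⟨_, Normal.conj_mem E.normal a ha τ⟩ * ⟨a, ha⟩⁻¹ := rfl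
      rw [e, map_mul, map_inv, inv_self' L.exp, hv]
    have hr : d⁻¹ * k ∈ R := (L.eq_iff _ _).1 hp
    obtain ⟨r, hrR, rfl⟩ : ∃ r ∈ R, k = d * r := ⟨d⁻¹ * k, hr, (mul_inv_cancel_left d k).symm⟩
    have hcr : ∀ g ∈ P, g * r = r * g := fun g hg => hab g hg r (hR hrR)
    have hdinv : τ * d * τ⁻¹ = d⁻¹ := by
      calc τ * d * τ⁻¹ = τ * τ * a * (τ * τ)⁻¹ * (τ * a⁻¹ * τ⁻¹) := by simp only [hd]; group
        _ = d⁻¹ := by rw [hτ2]; simp only [hd]; group
    constructor
    · have e1 : d * r * (d * r) = d * d := by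
        calc d * r * (d * r) = d * (r * d) * r := by group
          _ = d * d * (r * r) := by rw [← hcr d hdP]; group
          _ = d * d := by rw [hexp r hrR, mul_one]
      have hm : τ * a * τ⁻¹ ∈ P := Normal.conj_mem E.normal a ha τ
      have e2 : d * d = τ * (a * a) * τ⁻¹ * (a * a) := by
        calc d * d = τ * a * τ⁻¹ * (a⁻¹ * (τ * a * τ⁻¹)) * a⁻¹ := by simp only [hd]; group
          _ = τ * (a * a) * τ⁻¹ * (a * a)⁻¹ := by rw [hab _ (inv_mem ha) _ hm]; group
          _ = _ := by rw [inv_eq_of_mul_eq_one_left (hexp _ (hsq a ha))]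
      rw [e1, e2]
      exact memN _ (hsq a ha)
    · have hrr : τ * r * τ⁻¹ ∈ P := Normal.conj_mem E.normal r (hR hrR) τ
      have e : τ * (d * r) * τ⁻¹ * (d * r) = τ * r * τ⁻¹ * r := by
        calc _ = τ * d * τ⁻¹ * (τ * r * τ⁻¹) * d * r := by group
          _ = τ * r * τ⁻¹ * (d⁻¹ * d) * r := by rw [hdinv, hab _ (inv_mem hdP) _ hrr]; group
          _ = _ := by rw [inv_mul_cancel, mul_one]
      rw [e]
      exact memN r hrR
  have hKτ : ∀ k ∈ K, τ * k * τ ∈ K := fun k hk => by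
    have h := mul_mem (hRK (hNR (hK k hk).2)) (inv_mem hk)
    rwa [mul_inv_cancel_right, hτi] at h
  let U : Subgroup Y :=
    { carrier := {x | x ∈ K ∨ x * τ ∈ K}
      one_mem' := Or.inl (one_mem _)
      mul_mem' := by
        rintro x z (hx | hx) (hz | hz)
        · exact Or.inl (mul_mem hx hz)
        · exact Or.inr (by rw [mul_assoc]; exact mul_mem hx hz)
        · refine Or.inr ?_
          have e : x * z * τ = x * τ * (τ * z * τ) := by
            calc x * z * τ = x * (τ * τ) * z * τ := by rw [hτ2, mul_one]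
              _ = _ := by group
          rw [e]
          exact mul_mem hx (hKτ z hz)
        · refine Or.inl ?_
          have e : x * z = x * τ * (τ * (z * τ) * τ) := by
            calc x * z = x * (τ * τ) * z * (τ * τ) := by rw [hτ2, mul_one, mul_one]
              _ = _ := by group
          rw [e]
          exact mul_mem hx (hKτ _ hz)
      inv_mem' := by
        rintro x (hx | hx)
        · exact Or.inl (inv_mem hx)
        · refine Or.inr ?_
          have e : x⁻¹ * τ = τ * (x * τ)⁻¹ * τ := by group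
          rw [e]
          exact hKτ _ (inv_mem hx) }
  have hNfix : ∀ n ∈ N, τ * n * τ⁻¹ = n := by
    rintro _ ⟨_, ⟨r, rfl⟩, rfl⟩
    rw [delta_apply, ← hπτ, Subgroup.coe_subtype, Subgroup.coe_mul, hτ]
    have hm : τ * r * τ⁻¹ ∈ P := Normal.conj_mem E.normal _ (hR r.2) τ
    calc τ * (τ * r * τ⁻¹ * r) * τ⁻¹ = τ * τ * r * (τ * τ)⁻¹ * (τ * r * τ⁻¹) := by group
      _ = τ * r * τ⁻¹ * r := by rw [hτ2, one_mul, inv_one, mul_one, hab _ (hR r.2) _ hm]
  have hNU : ∀ u ∈ U, ∀ n ∈ N, u * n = n * u := by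
    rintro u (hu | hu) n hn
    · exact hab u (hKP hu) n (hR (hNR hn))
    · have h1 := hab _ (hKP hu) n (hR (hNR hn))
      have h2 : τ * n = n * τ := mul_inv_eq_iff_eq_mul.1 (hNfix n hn)
      have e : u = u * τ * τ := by rw [mul_assoc, hτ2, mul_one]
      rw [e, mul_assoc (u * τ) τ n, h2, ← mul_assoc, h1, mul_assoc]
  have hnorm : U ≤ normalizer (N : Set Y) := fun u hu => by
    rw [mem_normalizer_iff]
    intro n
    refine ⟨fun hn => ?_, fun hn => ?_⟩
    · rwa [hNU u hu n hn, mul_inv_cancel_right]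
    · have h := hNU u⁻¹ (inv_mem hu) _ hn
      have e : u⁻¹ * (u * n * u⁻¹) * u = n := by group
      rw [h, inv_mul_cancel_right] at e
      rwa [← e]
  have hsqU : ∀ u ∈ U, u * u ∈ N := by
    rintro u (hu | hu)
    · exact (hK u hu).1
    · have e : u * u = u * τ * (τ * (u * τ) * τ⁻¹) := by
        calc u * u = u * (τ * τ) * u := by rw [hτ2, mul_one]
          _ = _ := by group
      rw [e, hab _ (hKP hu) _ (Normal.conj_mem E.normal _ (hKP hu) τ)]
      exact (hK _ hu).2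
  have hτP : τ ∉ P := fun h => by
    have h1 := E.mem.1 h
    rw [hπτ] at h1
    rw [h1] at htf
    simp only [one_mul, mul_one] at htf
    have h2 : f * f = 1 := by rw [← eq_inv_iff_mul_eq_one]; exact htf
    refine hf1 ?_
    calc f = f ^ 5 := by rw [pow_succ, show (4 : ℕ) = 2 * 2 from rfl, pow_mul, pow_two f, h2, one_pow, one_mul]
      _ = 1 := hf
  have hU : 128 ≤ Nat.card U := by
    let m : K × Fin 2 → U := fun x => ⟨if x.2 = 0 then x.1.1 else x.1.1 * τ, by
      split_ifs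
      · exact Or.inl x.1.2
      · exact Or.inr (by rw [mul_assoc, hτ2, mul_one]; exact x.1.2)⟩
    have hm : Function.Injective m := by
      rintro ⟨⟨k, hk⟩, i⟩ ⟨⟨k', hk'⟩, j⟩ e
      have e := congrArg Subtype.val e
      simp only [m] at e
      fin_cases i <;> fin_cases j <;> simp at e
      · rw [Prod.mk.injEq, Subtype.mk.injEq]; exact ⟨e, rfl⟩
      · exact absurd (by rw [e, inv_mul_cancel_left] : k'⁻¹ * k = τ) fun h => hτP (h ▸ mul_mem (inv_mem (hKP hk')) (hKP hk))
      · exact absurd (by rw [← e, inv_mul_cancel_left] : k⁻¹ * k' = τ) fun h => hτP (h ▸ mul_mem (inv_mem (hKP hk)) (hKP hk'))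
      · rw [Prod.mk.injEq, Subtype.mk.injEq]; exact ⟨e, rfl⟩
    have := Nat.card_le_card_of_injective m hm
    rwa [Nat.card_prod, hKc, Nat.card_fin] at this
  have := sq_subgroup_bound E hnorm hsqU
  omega

theorem second_layer (E : Setup π P) {R : Subgroup Y} [R.Normal] (hdef : R = sqs P) (hne : R ≠ ⊥) (F : Faithful P R)
    (hmin : ∀ N : Subgroup Y, N.Normal → N ≤ R → N = ⊥ ∨ N = R) :
    Nat.card R = 2 ∧ Nonempty (Cl ≃* P) := by
  classical
  have hR : R ≤ P := hdef ▸ sqs_le P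
  have hsq : ∀ a ∈ P, a * a ∈ R := fun a ha => hdef ▸ sq_mem_sqs ha
  obtain ⟨hcent, hexp⟩ := central_of_minimal E hR hne hmin
  have C : Central P R := ⟨hR, hcent, hexp, hsq⟩
  obtain ⟨V, iV, fV, ⟨L⟩⟩ := exists_layer E hR hsq F
  obtain ⟨τR, hτ⟩ := exists_act E (R := R) hcent
  letI := C.comm
  obtain ⟨q, hq, hqs⟩ := exists_quad L C
  have heq : ∀ σ v, q (L.ρ σ v) = τR σ (q v) := by
    intro σ v
    obtain ⟨y, rfl⟩ := E.surj σ
    obtain ⟨a, rfl⟩ := L.surj v
    rw [L.equiv y a ⟨_, Normal.conj_mem E.normal _ a.2 y⟩ rfl]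
    apply Subtype.ext
    rw [hqs, hτ, hqs]
    show y * a * y⁻¹ * (y * a * y⁻¹) = _
    group
  have hnontriv : ∃ v, q v ≠ 1 := by
    by_contra h
    push Not at h
    refine hne (eq_bot_iff.2 ?_)
    rw [hdef, sqs_le_iff]
    intro a ha
    rw [Subgroup.mem_bot]
    exact (hqs ⟨a, ha⟩).symm.trans (congrArg Subtype.val (h _))
  have hR16 := C.card_le E
  rcases action_dichotomy τR with htriv | hinj
  · have hfix : ∀ (y : Y), ∀ r ∈ R, y * r * y⁻¹ = r := fun y r hr => by
      rw [← hτ y ⟨r, hr⟩, htriv]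
      rfl
    have hR2 := card_eq_two_of_trivial E hR hne hmin hfix
    refine ⟨hR2, ?_⟩
    obtain ⟨o, b, O, hb, hqo, hqoo, -⟩ := hq.trivial_target L.le16 L.inj
      (fun σ v => by rw [heq, htriv]; rfl) hnontriv
    have hex : ∀ i : Fin 5, ∃ a : P, L.p a = o i := fun i => L.surj _
    choose x hx using hex
    let z : P := ⟨b, hR b.2⟩
    have hsq1 : ∀ i, x i * x i = 1 := fun i => Subtype.ext (by
      rw [Subgroup.coe_mul, ← hqs, hx, hqo]; rfl)
    have hQ : Quad z (fun i : Fin 4 => x i.castSucc) := by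
      refine ⟨fun g => Subtype.ext (hcent g g.2 b b.2).symm, Subtype.ext (hexp b b.2), fun i => hsq1 _, fun i j hij => ?_⟩
      have hne' : i.castSucc ≠ j.castSucc := fun e => hij.ne (Fin.castSucc_injective _ e)
      have e : x i.castSucc * x j.castSucc * (x i.castSucc * x j.castSucc) = z := Subtype.ext (by
        rw [Subgroup.coe_mul, ← hqs, map_mul, hx, hx, hqoo _ _ hne'])
      calc x j.castSucc * x i.castSucc
          = (x i.castSucc)⁻¹ * (x i.castSucc * x j.castSucc * (x i.castSucc * x j.castSucc)) * (x j.castSucc)⁻¹ := by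
            group
        _ = x i.castSucc * z * x j.castSucc := by
            rw [e, inv_eq_of_mul_eq_one_left (hsq1 i.castSucc), inv_eq_of_mul_eq_one_left (hsq1 j.castSucc)]
        _ = z * (x i.castSucc * x j.castSucc) := by
            rw [show x i.castSucc * z = z * x i.castSucc from Subtype.ext (hcent _ (x i.castSucc).2 b b.2), mul_assoc]
    have hsurj : Function.Surjective (extend hQ) := by
      rw [← MonoidHom.range_eq_top, eq_top_iff]
      have hz : z ∈ (extend hQ).range := ⟨Cl.zz, extend_zz hQ⟩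
      have hker : ∀ a : P, L.p a = 1 → a ∈ (extend hQ).range := by
        intro a ha
        obtain ⟨u, v, huv, hall⟩ := Nat.card_eq_two_iff.1 hR2
        have hall' : ∀ r : R, r = 1 ∨ r = b := fun r => by
          by_contra hcon
          push Not at hcon
          have h3 : ∀ s : R, s = u ∨ s = v := fun s => by
            have := Set.ext_iff.1 hall s
            simpa using this
          rcases h3 r with h1 | h1 <;> rcases h3 1 with h2 | h2 <;> rcases h3 b with h4 | h4 <;> simp_all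
        rcases hall' ⟨a, (L.ker a).1 ha⟩ with e | e
        · rw [show a = 1 from Subtype.ext (show (a : Y) = 1 from congrArg Subtype.val e)]; exact one_mem _
        · rwa [show a = z from Subtype.ext (show (a : Y) = b from congrArg Subtype.val e)]
      have hmem : ∀ i : Fin 5, o i ∈ (extend hQ).range.map L.p := by
        have h4 : ∀ i : Fin 4, o i.castSucc ∈ (extend hQ).range.map L.p := fun i =>
          ⟨x i.castSucc, ⟨_, extend_t hQ i⟩, hx _⟩
        intro i
        rcases Fin.eq_castSucc_or_eq_last i with ⟨j, rfl⟩ | rfl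
        · exact h4 j
        · have e : o (Fin.last 4) = o 0 * o 1 * o 2 * o 3 := eq_of_mul_one L.exp O.prod_eq_one
          rw [e]
          exact mul_mem (mul_mem (mul_mem (h4 0) (h4 1)) (h4 2)) (h4 3)
      intro a _
      have htop : L.p a ∈ (extend hQ).range.map L.p := by
        have h : closure (Set.range o) ≤ (extend hQ).range.map L.p := (closure_le _).2 (by
          rintro _ ⟨i, rfl⟩
          exact hmem i)
        exact h (O.gen ▸ mem_top _)
      obtain ⟨a', ha', e⟩ := htop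
      have := mul_mem ha' (hker (a'⁻¹ * a) (by rw [map_mul, map_inv, e, inv_mul_cancel]))
      rwa [mul_inv_cancel_left] at this
    have hcard : Nat.card Cl = Nat.card P := by
      rw [L.card hR, hR2, Nat.card_eq_fintype_card]
      decide
    exact ⟨MulEquiv.ofBijective _ ((Nat.bijective_iff_surjective_and_card _).2 ⟨hsurj, hcard⟩)⟩
  · exfalso
    have hexpR : ∀ r : R, r * r = 1 := fun r => Subtype.ext (hexp r r.2)
    have h16 := card_eq τR hexpR hR16 hinj
    rcases hq.module_target L.le16 L.inj hR16 hinj heq hnontriv with hhom | ⟨W, u, hW, hWq⟩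
    · refine no_homocyclic E L hR hsq (fun a ha b hb => ?_) hexp h16 τR hτ hinj
      obtain ⟨-, e⟩ := C.sq_mul ha hb
      have e2 : a * b * (a * b) = a * a * (b * b) := by
        have := congrArg Subtype.val (hhom (L.p ⟨a, ha⟩) (L.p ⟨b, hb⟩))
        rw [← map_mul, Subgroup.coe_mul, hqs, hqs, hqs] at this
        exact this
      rw [e2] at e
      have h1 : b * a * b⁻¹ * a⁻¹ = 1 := by
        rw [mul_assoc (b * a * b⁻¹ * a⁻¹)] at e
        exact mul_eq_right.1 e.symm
      exact (mul_inv_eq_iff_eq_mul.1 (mul_inv_eq_one.1 h1)).symm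
    · have hU := L.card_pre hR W
      rw [hW, h16] at hU
      have hN : Nat.card (zpowers (u : Y)) ≤ 2 := by
        rw [Nat.card_zpowers]
        exact orderOf_le_of_pow_eq_one two_pos (by rw [pow_two]; exact hexp u u.2)
      have hn : L.pre W ≤ normalizer (zpowers (u : Y) : Set Y) := fun g hg => by
        rw [mem_normalizer_iff]
        have hc : ∀ n ∈ zpowers (u : Y), g * n = n * g := fun n hn =>
          hcent g (L.pre_le W hg) n ((zpowers_le.2 u.2) hn)
        intro n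
        refine ⟨fun hn => ?_, fun hn => ?_⟩
        · rwa [hc n hn, mul_inv_cancel_right]
        · have h := hc _ hn
          rw [inv_mul_cancel_right] at h
          rwa [mul_left_cancel h] at hn
      have := sq_subgroup_bound E hn fun g hg => by
        rcases hWq _ ((L.mem_pre ⟨g, L.pre_le W hg⟩).1 hg) with e | e
        · rw [← hqs ⟨g, L.pre_le W hg⟩, e]; exact one_mem _
        · rw [← hqs ⟨g, L.pre_le W hg⟩, e]; exact mem_zpowers _
      omega

theorem third_layer (E : Setup π P) {S : Subgroup Y} [S.Normal] (F : Faithful P (sqs P)) (hS1 : S ≠ ⊥)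
    (hle : S ≤ sqs P) (hmin : ∀ N : Subgroup Y, N.Normal → N ≤ S → N = ⊥ ∨ N = S)
    (hcard : Nat.card ((sqs P).map (QuotientGroup.mk' S)) = 2)
    (g : Cl ≃* P.map (QuotientGroup.mk' S)) : False := by
  classical
  haveI := E.normal
  haveI := sqs_normal P
  set Φ := sqs P
  set m := QuotientGroup.mk' S
  have hSP : S ≤ P := hle.trans (sqs_le P)
  obtain ⟨hcS, hexpS⟩ := central_of_minimal E hSP hS1 hmin
  obtain ⟨hf1, hf2, hf3, hf4, hf5, hf6⟩ := cl_facts
  have hex : ∀ w : Cl, ∃ a ∈ P, m a = (g w : Y ⧸ S) := fun w => Subgroup.mem_map.1 (g w).2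
  choose lift hlP hlm using hex
  set a := lift (Cl.t 0)
  set b := lift (Cl.t 1)
  set c := lift (Cl.t 0 * Cl.t 1 * Cl.t 2)
  set z := b * a * b⁻¹ * a⁻¹ with hzdef
  have hmz : m z = (g Cl.zz : Y ⧸ S) := by
    rw [hzdef, map_mul, map_mul, map_mul, map_inv, map_inv, hlm, hlm, ← hf2]
    simp only [map_mul, map_inv, Subgroup.coe_mul, Subgroup.coe_inv]
  have hzz1 : (g Cl.zz : Y ⧸ S) ≠ 1 := fun e => Cl.zz_ne (g.injective (by rw [map_one]; exact Subtype.ext e))
  have hzzmem : (g Cl.zz : Y ⧸ S) ∈ Φ.map m := by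
    rw [sqs_map, ← hf1, map_mul]
    exact sq_mem_sqs (g _).2
  have hΦ : ∀ x ∈ Φ, x ∈ S ∨ z⁻¹ * x ∈ S := by
    intro x hx
    obtain ⟨u, v, -, hall⟩ := Nat.card_eq_two_iff.1 hcard
    have h3 : ∀ s : Φ.map m, s = u ∨ s = v := fun s => by
      have := Set.ext_iff.1 hall s
      simpa using this
    have key : (⟨m x, mem_map_of_mem m hx⟩ : Φ.map m) = 1 ∨
        (⟨m x, mem_map_of_mem m hx⟩ : Φ.map m) = ⟨_, hzzmem⟩ := by
      have hne : (⟨_, hzzmem⟩ : Φ.map m) ≠ 1 := fun e => hzz1 (congrArg Subtype.val e)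
      rcases h3 ⟨m x, mem_map_of_mem m hx⟩ with h1 | h1 <;> rcases h3 1 with h2 | h2 <;>
        rcases h3 ⟨_, hzzmem⟩ with h4 | h4 <;> simp_all
    rcases key with e | e
    · exact Or.inl ((QuotientGroup.eq_one_iff x).1 (congrArg Subtype.val e))
    · refine Or.inr (QuotientGroup.eq.1 ?_)
      exact hmz.trans (congrArg Subtype.val e).symm
  have hzΦ : z ∈ Φ := by
    obtain ⟨x, hx, e⟩ := hzzmem
    have h : x⁻¹ * z ∈ S := QuotientGroup.eq.1 (e.trans hmz.symm)
    have := mul_mem hx (hle h)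
    rwa [mul_inv_cancel_left] at this
  have hzP : z ∈ P := (sqs_le P) hzΦ
  have hzS : z ∉ S := fun h => hzz1 (by rw [← hmz]; exact (QuotientGroup.eq_one_iff z).2 h)
  have hΦab : ∀ x ∈ Φ, ∀ y ∈ Φ, x * y = y * x := by
    intro x hx y hy
    have hzc : z * x = x * z := by
      rcases hΦ x hx with h | h
      · exact hcS z hzP x h
      · have e := hcS z hzP _ h
        rw [mul_inv_cancel_left] at e
        conv_lhs => rw [show x = z * (z⁻¹ * x) by group]
        rw [hcS z hzP _ h]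
        group
    rcases hΦ y hy with h | h
    · exact hcS x (sqs_le P hx) y h
    · have e := hcS x (sqs_le P hx) _ h
      calc x * y = x * z * (z⁻¹ * y) := by group
        _ = z * (x * (z⁻¹ * y)) := by rw [← hzc]; group
        _ = z * ((z⁻¹ * y) * x) := by rw [e]
        _ = y * x := by group
  -- the centraliser
  haveI : (centralizer (Φ : Set Y)).Normal := Subgroup.normal_centralizer
  have hcz : c * z * c⁻¹ = z := by
    have hmove : ∀ w ∈ ({a, b} : Set Y), ∃ s ∈ S, c * w * c⁻¹ = s * w := by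
      intro w hw
      refine ⟨c * w * c⁻¹ * w⁻¹, (QuotientGroup.eq_one_iff _).1 ?_, by group⟩
      show m (c * w * c⁻¹ * w⁻¹) = 1
      rw [map_mul, map_mul, map_mul, map_inv, map_inv]
      rcases hw with rfl | rfl
      · rw [hlm, hlm, ← Subgroup.coe_mul, ← map_mul, hf3, map_mul, Subgroup.coe_mul, mul_inv_cancel_right, mul_inv_cancel]
      · rw [hlm, hlm, ← Subgroup.coe_mul, ← map_mul, hf4, map_mul, Subgroup.coe_mul, mul_inv_cancel_right, mul_inv_cancel]
    obtain ⟨s, hs, es⟩ := hmove a (Or.inl rfl)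
    obtain ⟨s', hs', es'⟩ := hmove b (Or.inr rfl)
    have c1 : ∀ w ∈ P, ∀ r ∈ S, w⁻¹ * r = r * w⁻¹ := fun w hw r hr => hcS _ (inv_mem hw) r hr
    calc c * z * c⁻¹ = (c * b * c⁻¹) * (c * a * c⁻¹) * (c * b * c⁻¹)⁻¹ * (c * a * c⁻¹)⁻¹ := by
          simp only [hzdef]; group
      _ = s' * (b * s) * a * b⁻¹ * (s'⁻¹ * a⁻¹) * s⁻¹ := by rw [es, es']; group
      _ = s' * s * b * a * (b⁻¹ * a⁻¹) * (s'⁻¹ * s⁻¹) := by
          rw [hcS b (hlP _) s hs, ← c1 a (hlP _) _ (inv_mem hs')]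
          group
      _ = s' * s * (z * (s'⁻¹ * s⁻¹)) := by simp only [hzdef]; group
      _ = s' * s * (s'⁻¹ * s⁻¹) * z := by rw [hcS z hzP _ (mul_mem (inv_mem hs') (inv_mem hs))]; group
      _ = z := by
          rw [← mul_inv_rev, hcS s (hSP hs) s' hs', mul_inv_cancel, one_mul]
  have hcC : c ∈ centralizer (Φ : Set Y) := mem_centralizer_iff.2 fun x hx => by
    rcases hΦ x hx with h | h
    · exact (hcS c (hlP _) x h).symm
    · calc x * c = z * ((z⁻¹ * x) * c) := by group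
        _ = z * (c * (z⁻¹ * x)) := by rw [← hcS c (hlP _) _ h]
        _ = c * z * c⁻¹ * (c * (z⁻¹ * x)) := by rw [hcz]
        _ = c * x := by group
  have hcΦ : c ∉ Φ := fun h => by
    rcases hΦ c h with h | h
    · refine hf5 (g.injective ?_)
      rw [map_one]
      exact Subtype.ext ((hlm _).symm.trans ((QuotientGroup.eq_one_iff c).2 h))
    · refine hf6 (g.injective (Subtype.ext ?_))
      exact (hlm _).symm.trans ((QuotientGroup.eq.2 h).symm.trans hmz)
  obtain ⟨V, iV, fV, ⟨L⟩⟩ := exists_layer E (sqs_le P) (fun a ha => sq_mem_sqs ha) F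
  haveI : (P ⊓ centralizer (Φ : Set Y)).Normal := inferInstance
  have hall := L.irreducible E (H := P ⊓ centralizer (Φ : Set Y)) inf_le_left
    (fun x hx => Subgroup.mem_inf.2 ⟨sqs_le P hx, mem_centralizer_iff.2 fun y hy => hΦab y hy x hx⟩)
    (Subgroup.mem_inf.2 ⟨hlP _, hcC⟩) hcΦ
  have hcent : ∀ w ∈ P, ∀ x ∈ Φ, w * x = x * w := fun w hw x hx =>
    (mem_centralizer_iff.1 (Subgroup.mem_inf.1 (hall hw)).2 x hx).symm
  have hz2 : z * z = 1 := by
    have h1 : z * z = b * (a * a) * b⁻¹ * (a * a)⁻¹ := by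
      calc z * z = b * a * b⁻¹ * (a⁻¹ * z) := by simp only [hzdef]; group
        _ = b * a * b⁻¹ * (z * a⁻¹) := by rw [hcent _ (inv_mem (hlP _)) z hzΦ]
        _ = b * (a * a) * b⁻¹ * (a * a)⁻¹ := by
            rw [show b * a * b⁻¹ * (z * a⁻¹) = b * a * (b⁻¹ * z) * a⁻¹ by group, hzdef]
            group
    rw [h1, hcent b (hlP _) _ (sq_mem_sqs (hlP _)), mul_inv_cancel_right, mul_inv_cancel]
  have CΦ : Central P Φ := ⟨sqs_le P, hcent, fun x hx => by
    rcases hΦ x hx with h | h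
    · exact hexpS x h
    · have e : x * x = z * z * ((z⁻¹ * x) * (z⁻¹ * x)) := by
        have e1 := hcent z hzP _ (hle h)
        calc x * x = z * ((z⁻¹ * x) * z) * (z⁻¹ * x) := by group
          _ = z * (z * (z⁻¹ * x)) * (z⁻¹ * x) := by rw [← e1]
          _ = _ := by group
      rw [e, hz2, hexpS _ h, one_mul], fun a ha => sq_mem_sqs ha⟩
  have hΦ16 := CΦ.card_le E
  have hlt : Nat.card S < Nat.card Φ := Nat.lt_of_le_of_ne
    (Nat.card_le_card_of_injective _ (Subgroup.inclusion_injective hle))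
    fun e => hzS (by rw [Subgroup.eq_of_le_of_card_ge hle e.ge]; exact hzΦ)
  obtain ⟨τS, hτS⟩ := exists_act E (R := S) hcS
  letI : CommGroup S :=
    { (inferInstance : Group S) with mul_comm := fun x y => Subtype.ext (hcS x.1 (hSP x.2) y.1 y.2) }
  have hS2 : Nat.card S = 2 := by
    refine card_eq_two_of_trivial E hSP hS1 hmin fun y r hr => ?_
    rcases action_dichotomy τS with h | h
    · rw [← hτS y ⟨r, hr⟩, h]
      rfl
    · have := card_eq τS (fun r => Subtype.ext (hexpS r r.2)) (by omega) h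
      omega
  have hΦ4 : Nat.card Φ ≤ 4 := by
    let k : Φ → S × Fin 2 := fun x => if h : (x : Y) ∈ S then (⟨x, h⟩, 0) else
      (⟨z⁻¹ * x, (hΦ x x.2).resolve_left h⟩, 1)
    have hk : Function.Injective k := by
      intro x y e
      simp only [k] at e
      split_ifs at e with hx hy hy
      · exact Subtype.ext (congrArg (fun w : S × Fin 2 => (w.1 : Y)) e)
      · exact absurd (congrArg Prod.snd e) (by simp)
      · exact absurd (congrArg Prod.snd e) (by simp)
      · exact Subtype.ext (mul_left_cancel (congrArg (fun w : S × Fin 2 => (w.1 : Y)) e))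
    have := Nat.card_le_card_of_injective k hk
    rwa [Nat.card_prod, hS2, Nat.card_fin] at this
  obtain ⟨τΦ, hτΦ⟩ := exists_act E (R := Φ) hcent
  letI := CΦ.comm
  obtain ⟨q, hq, hqs⟩ := exists_quad L CΦ
  have htriv : τΦ = 1 := by
    rcases action_dichotomy τΦ with h | h
    · exact h
    · have := card_eq τΦ (fun r => Subtype.ext (CΦ.exp r r.2)) hΦ16 h
      omega
  have hinv : ∀ σ v, q (L.ρ σ v) = q v := by
    intro σ v
    obtain ⟨y, rfl⟩ := E.surj σ
    obtain ⟨w, rfl⟩ := L.surj v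
    rw [L.equiv y w ⟨_, Normal.conj_mem E.normal _ w.2 y⟩ rfl]
    apply Subtype.ext
    rw [hqs, hqs]
    have h1 := congrArg Subtype.val (DFunLike.congr_fun (DFunLike.congr_fun htriv (π y)) (⟨_, CΦ.sq _ w.2⟩ : Φ))
    rw [hτΦ] at h1
    calc _ = y * ((w : Y) * w) * y⁻¹ := by group
      _ = _ := h1
  have hnt : ∃ v, q v ≠ 1 := by
    by_contra h
    push Not at h
    have : Φ ≤ ⊥ := sqs_le_iff.2 fun w hw => by
      rw [Subgroup.mem_bot]
      exact (hqs ⟨w, hw⟩).symm.trans (congrArg Subtype.val (h _))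
    exact hzS (by rw [Subgroup.mem_bot.1 (this hzΦ)]; exact one_mem _)
  obtain ⟨o, β, -, -, -, -, hval⟩ := hq.trivial_target L.le16 L.inj hinv hnt
  have hle' : Φ ≤ zpowers (β : Y) := sqs_le_iff.2 fun w hw => by
    rw [← hqs ⟨w, hw⟩]
    rcases hval (L.p ⟨w, hw⟩) with e | e <;> rw [e]
    · exact one_mem _
    · exact mem_zpowers _
  have h1 := Nat.card_le_card_of_injective _ (Subgroup.inclusion_injective hle')
  have h2 : Nat.card (zpowers (β : Y)) ≤ 2 := by
    rw [Nat.card_zpowers]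
    exact orderOf_le_of_pow_eq_one two_pos (by rw [pow_two]; exact CΦ.exp β β.2)
  omega

theorem quotient_minimal {M T : Subgroup Y} [M.Normal] (hMT : M ≤ T)
    (hmax : ∀ N : Subgroup Y, N.Normal → M ≤ N → N < T → N = M) :
    ∀ N : Subgroup (Y ⧸ M), N.Normal → N ≤ T.map (QuotientGroup.mk' M) →
      N = ⊥ ∨ N = T.map (QuotientGroup.mk' M) := by
  intro N hN hle
  haveI := hN
  set m := QuotientGroup.mk' M
  have hs : Function.Surjective m := QuotientGroup.mk'_surjective M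
  have hle' : N.comap m ≤ T := by
    intro x hx
    obtain ⟨t, ht, e⟩ := hle hx
    have := mul_mem ht (hMT (QuotientGroup.eq.1 e))
    rwa [mul_inv_cancel_left] at this
  have hMN : M ≤ N.comap m := fun x hx => by
    rw [Subgroup.mem_comap, show m x = 1 from (QuotientGroup.eq_one_iff x).2 hx]
    exact one_mem _
  rcases lt_or_eq_of_le hle' with h | h
  · refine Or.inl ?_
    rw [← Subgroup.map_comap_eq_self_of_surjective hs N, hmax _ (Normal.comap inferInstance _) hMN h,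
      Subgroup.map_eq_bot_iff, QuotientGroup.ker_mk']
  · exact Or.inr (by rw [← h, Subgroup.map_comap_eq_self_of_surjective hs])

theorem map_sqs_ne_bot {M T : Subgroup Y} [M.Normal] (h : M < T) : T.map (QuotientGroup.mk' M) ≠ ⊥ := by
  rw [Ne, Subgroup.map_eq_bot_iff, QuotientGroup.ker_mk']
  exact fun h' => not_le_of_gt h h'

theorem top_layer (E : Setup π P) (F : Faithful P (sqs P)) {M : Subgroup Y} [M.Normal] (hM : M < sqs P)
    (hmax : ∀ N : Subgroup Y, N.Normal → M ≤ N → N < sqs P → N = M) :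
    Nat.card ((sqs P).map (QuotientGroup.mk' M)) = 2 ∧ Nonempty (Cl ≃* P.map (QuotientGroup.mk' M)) := by
  haveI := E.normal
  haveI := sqs_normal P
  haveI : ((sqs P).map (QuotientGroup.mk' M)).Normal :=
    Normal.map inferInstance _ (QuotientGroup.mk'_surjective _)
  exact second_layer (E.quotient M (hM.le.trans (sqs_le P))) (sqs_map _ _) (map_sqs_ne_bot hM)
    (F.quotient hM.le) (quotient_minimal hM.le hmax)

theorem exists_maximal_below (T : Subgroup Y) (hT : T ≠ ⊥) :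
    ∃ M : Subgroup Y, M.Normal ∧ M < T ∧ ∀ N : Subgroup Y, N.Normal → M ≤ N → N < T → N = M := by
  obtain ⟨M, ⟨hM1, hM2⟩, hmax⟩ := (Set.toFinite {N : Subgroup Y | N.Normal ∧ N < T}).exists_maximal
    ⟨⊥, inferInstance, bot_lt_iff_ne_bot.2 hT⟩
  exact ⟨M, hM1, hM2, fun N h1 h2 h3 => le_antisymm (hmax ⟨h1, h3⟩ h2) h2⟩

theorem radical_structure (E : Setup π P) (hC : centralizer (P : Set Y) ≤ P) :
    (Cfsg.IsElementaryAbelian 2 P ∧ Nat.card P = 16) ∨ Nonempty (Cl ≃* P) := by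
  classical
  haveI := E.normal
  haveI := sqs_normal P
  have F := faithful_sqs E hC
  by_cases h0 : sqs P = ⊥
  · left
    have hexp : ∀ a ∈ P, a * a = 1 := fun a ha => Subgroup.mem_bot.1 (h0 ▸ sq_mem_sqs ha)
    obtain ⟨V, iV, fV, ⟨L⟩⟩ := exists_layer E (R := sqs P) (sqs_le P) (fun a ha => sq_mem_sqs ha) F
    refine ⟨⟨⟨⟨fun a b => Subtype.ext ?_⟩⟩, fun a ha => by rw [pow_two]; exact hexp a ha⟩, ?_⟩
    · have h : ∀ c : Y, c ∈ P → c⁻¹ = c := fun c hc => inv_eq_of_mul_eq_one_right (hexp c hc)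
      show (a : Y) * b = b * a
      rw [← h _ (mul_mem a.2 b.2), mul_inv_rev, h _ a.2, h _ b.2]
    · rw [L.card (sqs_le P), h0, Subgroup.card_bot]
  · right
    obtain ⟨M, hMn, hM, hmax⟩ := exists_maximal_below (sqs P) h0
    haveI := hMn
    obtain ⟨hcard, ⟨e⟩⟩ := top_layer E F hM hmax
    by_cases hM0 : M = ⊥
    · subst hM0
      refine ⟨e.trans (P.equivMapOfInjective (QuotientGroup.mk' (⊥ : Subgroup Y)) ?_).symm⟩
      rw [← MonoidHom.ker_eq_bot_iff, QuotientGroup.ker_mk']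
    exfalso
    obtain ⟨M₂, hM₂n, hM₂, hmax₂⟩ := exists_maximal_below M hM0
    haveI := hM₂n
    set m := QuotientGroup.mk' M₂
    have hs : Function.Surjective m := QuotientGroup.mk'_surjective M₂
    have hM₂P : M₂ ≤ P := (hM₂.trans hM).le.trans (sqs_le P)
    have E₂ := E.quotient M₂ hM₂P
    have F₂ : Faithful (P.map m) (sqs (P.map m)) := sqs_map m P ▸ F.quotient (hM₂.trans hM).le
    haveI : (M.map m).Normal := Normal.map inferInstance _ hs
    have hcomap : ∀ T : Subgroup Y, M₂ ≤ T → (T.map m).comap m = T := fun T hT =>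
      Subgroup.comap_map_eq_self (by rw [QuotientGroup.ker_mk']; exact hT)
    have hlt : M.map m < sqs (P.map m) := by
      rw [← sqs_map]
      refine lt_of_le_of_ne (Subgroup.map_mono hM.le) fun h => hM.ne ?_
      rw [← hcomap M hM₂.le, h, hcomap _ (hM₂.trans hM).le]
    have hmax' : ∀ N : Subgroup (Y ⧸ M₂), N.Normal → M.map m ≤ N → N < sqs (P.map m) → N = M.map m := by
      intro N hN h1 h2
      haveI := hN
      rw [← sqs_map] at h2
      have h3 : N.comap m = M := by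
        refine hmax _ (Normal.comap inferInstance _) (hcomap M hM₂.le ▸ Subgroup.comap_mono h1) ?_
        refine lt_of_le_of_ne ((Subgroup.comap_mono h2.le).trans (hcomap _ (hM₂.trans hM).le).le) fun h => h2.ne ?_
        rw [← Subgroup.map_comap_eq_self_of_surjective hs N, h]
      rw [← h3, Subgroup.map_comap_eq_self_of_surjective hs]
    obtain ⟨hc2, ⟨g⟩⟩ := top_layer E₂ F₂ hlt hmax'
    exact third_layer E₂ F₂ (map_sqs_ne_bot hM₂) hlt.le (quotient_minimal hM₂.le hmax₂) hc2 g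

end Cfsg.Lib.AltFiveRadical
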