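import Cfsg.Agent.SolvStruct.AltFiveRadical.Quadratic
import Cfsg.Agent.SolvStruct.SymSixSection.Quotients

/-!
Layers of a normal 2-subgroup with quotient the alternating group of degree five.
-/

set_option autoImplicit false
set_option linter.unusedSectionVars false
set_option linter.style.haveILetI false
set_option maxRecDepth 4000

namespace Cfsg.Lib.AltFiveRadical

open Subgroup
open Cfsg.Lib.SymSixSection (inv_self')

universe u
variable {Y : Type u} [Group Y] [Finite Y]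

/-- the subgroup generated by the squares -/
def sqs (P : Subgroup Y) : Subgroup Y := closure ((fun a => a * a) '' (P : Set Y))

theorem sq_mem_sqs {P : Subgroup Y} {a : Y} (ha : a ∈ P) : a * a ∈ sqs P :=
  Subgroup.subset_closure ⟨a, ha, rfl⟩

theorem sqs_le_iff {P N : Subgroup Y} : sqs P ≤ N ↔ ∀ a ∈ P, a * a ∈ N := by
  rw [sqs, closure_le]
  exact ⟨fun h a ha => h ⟨a, ha, rfl⟩, fun h x ⟨a, ha, e⟩ => e ▸ h a ha⟩

theorem sqs_le (P : Subgroup Y) : sqs P ≤ P := sqs_le_iff.2 fun _ ha => mul_mem ha ha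

theorem sqs_map {Y' : Type*} [Group Y'] (f : Y →* Y') (P : Subgroup Y) : (sqs P).map f = sqs (P.map f) := by
  rw [sqs, sqs, MonoidHom.map_closure, Set.image_image, Subgroup.coe_map, Set.image_image]
  simp only [map_mul]

theorem sqs_normal (P : Subgroup Y) [P.Normal] : (sqs P).Normal := by
  refine ⟨fun n hn g => ?_⟩
  have h : sqs P ≤ (sqs P).comap (MulAut.conj g).toMonoidHom := sqs_le_iff.2 fun a ha => by
    show g * (a * a) * g⁻¹ ∈ sqs P
    rw [show g * (a * a) * g⁻¹ = g * a * g⁻¹ * (g * a * g⁻¹) by group]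
    exact sq_mem_sqs (Normal.conj_mem inferInstance a ha g)
  exact h hn

/-- faithful action on the quotient -/
def Faithful (P R : Subgroup Y) : Prop := ∀ y, (∀ a ∈ P, y * a * y⁻¹ * a⁻¹ ∈ R) → y ∈ P

/-- an extension by the alternating group of degree five -/
structure Setup (π : Y →* A5) (P : Subgroup Y) : Prop where
  surj : Function.Surjective π
  ker : π.ker = P
  two : IsPGroup 2 P
  rank : Cfsg.SectionalPRankLE 2 4 Y

variable {π : Y →* A5} {P : Subgroup Y}

theorem Setup.normal (E : Setup π P) : P.Normal := E.ker ▸ inferInstance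

theorem Setup.mem (E : Setup π P) {y : Y} : y ∈ P ↔ π y = 1 := by rw [← E.ker]; exact Iff.rfl

theorem Setup.quotient (E : Setup π P) (M : Subgroup Y) [M.Normal] (hM : M ≤ P) :
    Setup (QuotientGroup.lift M π (hM.trans E.ker.ge)) (P.map (QuotientGroup.mk' M)) where
  surj q := by
    obtain ⟨y, rfl⟩ := E.surj q
    exact ⟨y, rfl⟩
  ker := by
    ext y
    obtain ⟨y, rfl⟩ := QuotientGroup.mk'_surjective M y
    rw [MonoidHom.mem_ker]
    constructor
    · intro h
      exact mem_map_of_mem _ (E.mem.2 h)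
    · rintro ⟨a, ha, e⟩
      rw [← e]
      exact E.mem.1 ha
  two := E.two.map _
  rank := Cfsg.Lib.SectionalRankTwo.sectional_quotient E.rank M

theorem Faithful.quotient {R M : Subgroup Y} [M.Normal] (F : Faithful P R) (hMR : M ≤ R) :
    Faithful (P.map (QuotientGroup.mk' M)) (R.map (QuotientGroup.mk' M)) := by
  intro y hy
  obtain ⟨y, rfl⟩ := QuotientGroup.mk'_surjective M y
  refine mem_map_of_mem _ (F y fun a ha => ?_)
  obtain ⟨r, hr, e⟩ := hy _ (mem_map_of_mem _ ha)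
  rw [← map_inv, ← map_inv, ← map_mul, ← map_mul, ← map_mul] at e
  have h := hMR (QuotientGroup.eq.1 e)
  have := mul_mem hr h
  rwa [mul_inv_cancel_left] at this

theorem action_dichotomy {W : Type*} [Group W] (f : A5 →* W) : f = 1 ∨ Function.Injective f := by
  haveI := simple
  rcases IsSimpleGroup.eq_bot_or_eq_top_of_normal f.ker inferInstance with h | h
  · exact Or.inr ((MonoidHom.ker_eq_bot_iff _).1 h)
  · exact Or.inl (MonoidHom.ext fun x => MonoidHom.mem_ker.1 (h ▸ mem_top x))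

theorem faithful_sqs (E : Setup π P) (hC : centralizer (P : Set Y) ≤ P) : Faithful P (sqs P) := by
  classical
  haveI : Fact (Nat.Prime 2) := ⟨Nat.prime_two⟩
  haveI := E.normal
  haveI := sqs_normal P
  obtain ⟨n, hn⟩ := IsPGroup.iff_card.1 E.two
  obtain ⟨r, hr⟩ := E.two.index (frattini P)
  set Φ := sqs P
  set m := QuotientGroup.mk' Φ
  haveI : (P.map m).Normal := Normal.map inferInstance _ (QuotientGroup.mk'_surjective _)
  haveI : (centralizer ((P.map m : Subgroup (Y ⧸ Φ)) : Set (Y ⧸ Φ))).Normal := Subgroup.normal_centralizer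
  set C := (centralizer ((P.map m : Subgroup (Y ⧸ Φ)) : Set (Y ⧸ Φ))).comap m
  haveI : C.Normal := Normal.comap inferInstance _
  have hsub : ∀ b : P, (b : Y) ∈ Φ → b ∈ frattini P := by
    have h : Φ ≤ (frattini P).map P.subtype := sqs_le_iff.2 fun a ha => ⟨⟨a, ha⟩ ^ 2,
      Cfsg.Lib.PGroups.pow_mem_frattini E.two _, by simp [pow_two]⟩
    intro b hb
    obtain ⟨c, hc, e⟩ := h hb
    rwa [← Subtype.ext (show (c : Y) = b from e)]
  have hCP : IsPGroup 2 C := by
    have hA : IsPGroup 2 (C.map (MulAut.conjNormal (H := P))) := by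
      have hd := Cfsg.Lib.PGroups.card_stabilizing_dvd hn hr (C.map (MulAut.conjNormal (H := P))) (by
        rintro _ ⟨g, hg, rfl⟩ x
        refine hsub _ ((QuotientGroup.eq_one_iff _).1 ?_)
        have h1 : m g * m (x : Y) = m (x : Y) * m g :=
          (mem_centralizer_iff.1 hg _ (mem_map_of_mem m x.2)).symm
        show m ((MulAut.conjNormal g x * x⁻¹ : P) : Y) = 1
        rw [Subgroup.coe_mul, MulAut.conjNormal_apply, Subgroup.coe_inv, map_mul, map_mul, map_mul, map_inv,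
          map_inv, h1]
        group)
      obtain ⟨k, -, hk⟩ := (Nat.dvd_prime_pow Nat.prime_two).1 hd
      exact IsPGroup.of_card hk
    have hk : IsPGroup 2 (MulAut.conjNormal (H := P)).ker := E.two.to_le (fun g hg => hC (by
      rw [Subgroup.mem_centralizer_iff]
      intro x hx
      have h1 := congrArg Subtype.val (DFunLike.congr_fun (MonoidHom.mem_ker.1 hg) ⟨x, hx⟩)
      rw [MulAut.conjNormal_apply, MulAut.one_apply] at h1
      exact (mul_inv_eq_iff_eq_mul.1 h1).symm))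
    exact (hA.comap_of_ker_isPGroup _ hk).to_le (Subgroup.le_comap_map _ _)
  haveI : (C.map π).Normal := Normal.map inferInstance _ E.surj
  have hbot : C.map π = ⊥ := by
    haveI := simple
    rcases IsSimpleGroup.eq_bot_or_eq_top_of_normal (C.map π) inferInstance with h | h
    · exact h
    exfalso
    obtain ⟨f, -, hf, hf1, -⟩ := five_elt
    have hf' : f ∈ C.map π := h ▸ mem_top f
    obtain ⟨k, hk⟩ := hCP.map π ⟨f, hf'⟩
    have hk' : f ^ 2 ^ k = 1 := congrArg Subtype.val hk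
    have h5 : orderOf f = 5 := by
      haveI : Fact (Nat.Prime 5) := ⟨by norm_num⟩
      exact orderOf_eq_prime hf hf1
    have hd : 5 ∣ 2 ^ k := h5 ▸ orderOf_dvd_of_pow_eq_one hk'
    have := (show Nat.Prime 5 by norm_num).dvd_of_dvd_pow hd
    omega
  intro y hy
  rw [← E.ker]
  refine Subgroup.mem_bot.1 (hbot ▸ mem_map_of_mem π (show y ∈ C from ?_))
  rw [Subgroup.mem_comap, mem_centralizer_iff]
  rintro _ ⟨a, ha, rfl⟩
  have h := (QuotientGroup.eq_one_iff (N := Φ) _).2 (hy a ha)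
  change m (y * a * y⁻¹ * a⁻¹) = 1 at h
  rw [map_mul, map_mul, map_mul, map_inv, map_inv, mul_inv_eq_one, mul_inv_eq_iff_eq_mul] at h
  exact h.symm

/-- an elementary abelian quotient with its action -/
structure Layer (π : Y →* A5) (P R : Subgroup Y) (V : Type u) [CommGroup V] where
  p : P →* V
  surj : Function.Surjective p
  ker : ∀ a : P, p a = 1 ↔ (a : Y) ∈ R
  ρ : A5 →* MulAut V
  equiv : ∀ (y : Y) (a b : P), (b : Y) = y * a * y⁻¹ → ρ (π y) (p a) = p b
  inj : Function.Injective ρ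
  exp : ∀ v : V, v * v = 1
  le16 : Nat.card V ≤ 16

theorem exists_layer (E : Setup π P) {R : Subgroup Y} [R.Normal] (hR : R ≤ P) (hsq : ∀ a ∈ P, a * a ∈ R)
    (F : Faithful P R) : ∃ (V : Type u) (_ : CommGroup V) (_ : Finite V), Nonempty (Layer π P R V) := by
  classical
  haveI := E.normal
  set m := QuotientGroup.mk' R
  haveI : (P.map m).Normal := Normal.map inferInstance _ (QuotientGroup.mk'_surjective _)
  have hexp : ∀ v : P.map m, v * v = 1 := by
    rintro ⟨_, a, ha, rfl⟩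
    exact Subtype.ext ((QuotientGroup.eq_one_iff _).2 (hsq a ha))
  have hmc : ∀ a b : P.map m, a * b = b * a := fun a b => by
    have hi : ∀ c : P.map m, c⁻¹ = c := fun c => inv_eq_of_mul_eq_one_right (hexp c)
    rw [← hi (a * b), mul_inv_rev, hi, hi]
  letI : CommGroup (P.map m) := { (inferInstance : Group (P.map m)) with mul_comm := hmc }
  let p : P →* P.map m := m.subgroupMap P
  have hp : Function.Surjective p := m.subgroupMap_surjective P
  let ρY : Y →* MulAut (P.map m) := (MulAut.conjNormal (H := P.map m)).comp m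
  have happ : ∀ y (a : P), ((ρY y (p a) : P.map m) : Y ⧸ R) = m (y * a * y⁻¹) := fun y a => by
    rw [map_mul, map_mul, map_inv]; exact MulAut.conjNormal_apply _ _
  have hPker : π.ker ≤ ρY.ker := by
    intro a ha
    rw [MonoidHom.mem_ker]
    refine MulEquiv.ext fun v => ?_
    obtain ⟨b, rfl⟩ := hp v
    apply Subtype.ext
    rw [happ, MulAut.one_apply]
    have h := congrArg Subtype.val (mul_comm (p ⟨a, E.ker ▸ ha⟩) (p b))
    rw [map_mul, map_mul, map_inv]
    show m a * m b * (m a)⁻¹ = m b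
    change m a * m b = m b * m a at h
    rw [h, mul_inv_cancel_right]
  let ρ : A5 →* MulAut (P.map m) := π.liftOfSurjective E.surj ⟨ρY, hPker⟩
  have hρ : ∀ y, ρ (π y) = ρY y := fun y =>
    MonoidHom.liftOfRightInverse_comp_apply π _ (Function.rightInverse_surjInv E.surj) ⟨ρY, hPker⟩ y
  refine ⟨P.map m, inferInstance, inferInstance, ⟨⟨p, hp, fun a => ?_, ρ, ?_, ?_, hexp, ?_⟩⟩⟩
  · rw [Subtype.ext_iff]
    exact QuotientGroup.eq_one_iff _
  · intro y a b e
    apply Subtype.ext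
    rw [hρ, happ, ← e]
    rfl
  · rw [injective_iff_map_eq_one]
    intro σ hσ
    obtain ⟨y, rfl⟩ := E.surj σ
    refine E.mem.1 (F y fun a ha => (QuotientGroup.eq_one_iff _).1 ?_)
    have h := congrArg (fun φ : MulAut (P.map m) => ((φ (p ⟨a, ha⟩) : P.map m) : Y ⧸ R)) hσ
    simp only [MulAut.one_apply] at h
    rw [hρ, happ] at h
    show m (y * a * y⁻¹ * a⁻¹) = 1
    rw [map_mul, h, map_inv]
    exact mul_inv_cancel (m a)
  · have h := Cfsg.Lib.SectionalRank.sectional_bound E.rank (N := R) (U := P)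
      (by rw [normalizer_eq_top]; exact le_top) hsq
    refine le_trans (le_of_eq ?_) h
    rw [Subgroup.relIndex, Subgroup.index]
    exact (Nat.card_congr ((QuotientGroup.quotientMulEquivOfEq (M := p.ker) (N := R.subgroupOf P) (by
      ext a
      rw [MonoidHom.mem_ker, mem_subgroupOf, Subtype.ext_iff]
      exact QuotientGroup.eq_one_iff _)).symm.trans (QuotientGroup.quotientKerEquivOfSurjective p hp)).toEquiv).symm

section layer

variable {R : Subgroup Y} {V : Type u} [CommGroup V] [Finite V] (L : Layer π P R V)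
include L

theorem Layer.eq_iff (a b : P) : L.p a = L.p b ↔ (a : Y)⁻¹ * b ∈ R := by
  rw [← inv_mul_eq_one, ← map_inv, ← map_mul, L.ker]
  rfl

theorem Layer.card_V (hle : Nat.card V ≤ 16) : Nat.card V = 16 := card_eq L.ρ L.exp hle L.inj

/-- preimages in the group -/
def Layer.pre (W : Subgroup V) : Subgroup Y := (W.comap L.p).map P.subtype

theorem Layer.mem_pre {W : Subgroup V} (a : P) : (a : Y) ∈ L.pre W ↔ L.p a ∈ W :=
  ⟨fun ⟨b, hb, e⟩ => Subtype.ext (show (b : Y) = a from e) ▸ hb, fun h => ⟨a, h, rfl⟩⟩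

theorem Layer.pre_le (W : Subgroup V) : L.pre W ≤ P := Subgroup.map_subtype_le _

theorem Layer.card_pre (hR : R ≤ P) (W : Subgroup V) : Nat.card (L.pre W) = Nat.card W * Nat.card R := by
  rw [Layer.pre, card_map_of_injective P.subtype_injective]
  let f : W.comap L.p →* W := (L.p.comp (W.comap L.p).subtype).codRestrict W fun a => a.2
  have hf : Function.Surjective f := fun w => by
    obtain ⟨a, ha⟩ := L.surj w.1
    exact ⟨⟨a, show L.p a ∈ W by rw [ha]; exact w.2⟩, Subtype.ext ha⟩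
  have hk : Nat.card f.ker = Nat.card R := by
    refine Nat.card_congr ⟨fun a => ⟨((a : W.comap L.p) : P).1, (L.ker _).1 (congrArg Subtype.val a.2)⟩,
      fun r => ⟨⟨⟨r.1, hR r.2⟩, show L.p _ ∈ W by rw [(L.ker ⟨r.1, hR r.2⟩).2 r.2]; exact one_mem W⟩,
        Subtype.ext ((L.ker _).2 r.2)⟩, fun a => rfl, fun r => rfl⟩
  rw [← f.ker.card_mul_index, Subgroup.index_ker, MonoidHom.range_eq_top.2 hf, Subgroup.card_top, hk, mul_comm]

theorem Layer.card (hR : R ≤ P) : Nat.card P = 16 * Nat.card R := by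
  have h := L.card_pre hR ⊤
  rw [Subgroup.card_top, L.card_V L.le16] at h
  rw [← h, Layer.pre, Subgroup.comap_top, ← MonoidHom.range_eq_map, Subgroup.range_subtype]

theorem Layer.irreducible (E : Setup π P) {H : Subgroup Y} [H.Normal] (hHP : H ≤ P) (hRH : R ≤ H) {a : Y}
    (ha : a ∈ H) (haR : a ∉ R) : P ≤ H := by
  have hW : (H.subgroupOf P).map L.p = ⊤ := by
    refine eq_top_of_invariant L.ρ L.exp L.le16 L.inj (fun e => ?_) ?_
    · have h : L.p ⟨a, hHP ha⟩ ∈ (H.subgroupOf P).map L.p := mem_map_of_mem _ (mem_subgroupOf.2 ha)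
      rw [e, Subgroup.mem_bot, L.ker] at h
      exact haR h
    · rintro σ _ ⟨b, hb, rfl⟩
      obtain ⟨y, rfl⟩ := E.surj σ
      haveI := E.normal
      refine ⟨⟨y * b * y⁻¹, Normal.conj_mem inferInstance _ b.2 y⟩,
        mem_subgroupOf.2 (Normal.conj_mem inferInstance _ (mem_subgroupOf.1 hb) y), (L.equiv y b _ rfl).symm⟩
  intro b hb
  obtain ⟨c, hc, e⟩ := (hW ▸ mem_top (L.p ⟨b, hb⟩) : L.p ⟨b, hb⟩ ∈ (H.subgroupOf P).map L.p)
  have := mul_mem (mem_subgroupOf.1 hc) (hRH ((L.eq_iff c ⟨b, hb⟩).1 e))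
  simpa using this

end layer

/-- a central elementary abelian normal subgroup containing the squares -/
structure Central (P R : Subgroup Y) : Prop where
  le : R ≤ P
  cent : ∀ a ∈ P, ∀ r ∈ R, a * r = r * a
  exp : ∀ r ∈ R, r * r = 1
  sq : ∀ a ∈ P, a * a ∈ R

/-- the commutative group structure -/
@[reducible] def Central.comm {R : Subgroup Y} (C : Central P R) : CommGroup R :=
  { (inferInstance : Group R) with mul_comm := fun a b => Subtype.ext (C.cent a.1 (C.le a.2) b.1 b.2) }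

theorem Central.card_le {R : Subgroup Y} [R.Normal] (E : Setup π P) (C : Central P R) : Nat.card R ≤ 16 := by
  have := Cfsg.Lib.SectionalRank.sectional_bound E.rank (N := ⊥) (U := R) (by rw [normalizer_eq_top]; exact le_top)
    (fun u hu => by rw [C.exp u hu]; exact one_mem _)
  rwa [relIndex_bot_left] at this

theorem exists_act (E : Setup π P) {R : Subgroup Y} [R.Normal] (hcent : ∀ a ∈ P, ∀ r ∈ R, a * r = r * a) :
    ∃ τ : A5 →* MulAut R, ∀ (y : Y) (r : R), ((τ (π y) r : R) : Y) = y * r * y⁻¹ := by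
  let τY : Y →* MulAut R := MulAut.conjNormal
  have hk : π.ker ≤ τY.ker := fun a ha => by
    rw [E.ker] at ha
    rw [MonoidHom.mem_ker]
    refine MulEquiv.ext fun b => Subtype.ext ?_
    show a * (b : Y) * a⁻¹ = b
    rw [hcent a ha b b.2, mul_inv_cancel_right]
  refine ⟨π.liftOfSurjective E.surj ⟨τY, hk⟩, fun y r => ?_⟩
  have h : π.liftOfSurjective E.surj ⟨τY, hk⟩ (π y) = τY y :=
    MonoidHom.liftOfRightInverse_comp_apply π _ (Function.rightInverse_surjInv E.surj) ⟨τY, hk⟩ y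
  rw [h]
  rfl

theorem Central.sq_mul {R : Subgroup Y} (C : Central P R) {a b : Y} (ha : a ∈ P) (hb : b ∈ P) :
    b * a * b⁻¹ * a⁻¹ ∈ R ∧ a * b * (a * b) = b * a * b⁻¹ * a⁻¹ * (a * a) * (b * b) := by
  have hk : b * a * b⁻¹ * a⁻¹ ∈ R := by
    have e : b * a * b⁻¹ * a⁻¹ = b * a * (b * a) * ((b * a)⁻¹ * ((b * b)⁻¹ * (b * a))) * (a * a)⁻¹ := by group
    rw [e]
    refine mul_mem (mul_mem (C.sq _ (mul_mem hb ha)) ?_) (inv_mem (C.sq _ ha))
    rw [← C.cent _ (mul_mem hb ha) _ (inv_mem (C.sq _ hb)), inv_mul_cancel_left]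
    exact inv_mem (C.sq _ hb)
  refine ⟨hk, ?_⟩
  calc a * b * (a * b) = a * (b * a * b⁻¹ * a⁻¹) * (a * (b * b)) := by group
    _ = b * a * b⁻¹ * a⁻¹ * a * (a * (b * b)) := by rw [C.cent a ha _ hk]
    _ = _ := by group

theorem Central.kappa_mul {R : Subgroup Y} (C : Central P R) {a b c : Y} (ha : a ∈ P) (hb : b ∈ P) (hc : c ∈ P) :
    c * (a * b) * c⁻¹ * (a * b)⁻¹ = c * a * c⁻¹ * a⁻¹ * (c * b * c⁻¹ * b⁻¹) := by
  calc _ = c * a * c⁻¹ * ((c * b * c⁻¹ * b⁻¹) * a⁻¹) := by group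
    _ = c * a * c⁻¹ * (a⁻¹ * (c * b * c⁻¹ * b⁻¹)) := by rw [C.cent a⁻¹ (inv_mem ha) _ (C.sq_mul hb hc).1]
    _ = _ := by group

theorem exists_quad {R : Subgroup Y} [R.Normal] {V : Type u} [CommGroup V] [Finite V] (L : Layer π P R V)
    (C : Central P R) : letI := C.comm
      ∃ q : V → R, IsQuad q ∧ ∀ a : P, (q (L.p a) : Y) = (a : Y) * a := by
  letI := C.comm
  let q : V → R := fun v => ⟨((Function.surjInv L.surj v : P) : Y) * (Function.surjInv L.surj v : P),
    C.sq _ (Function.surjInv L.surj v : P).2⟩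
  have hspec : ∀ a : P, (q (L.p a) : Y) = (a : Y) * a := by
    intro a
    set b := Function.surjInv L.surj (L.p a)
    have hr : (a : Y)⁻¹ * b ∈ R := (L.eq_iff a b).1 (Function.surjInv_eq L.surj _).symm
    show (b : Y) * b = _
    calc (b : Y) * b = a * (((a : Y)⁻¹ * b) * a) * ((a : Y)⁻¹ * b) := by group
      _ = a * (a * ((a : Y)⁻¹ * b)) * ((a : Y)⁻¹ * b) := by rw [C.cent _ a.2 _ hr]
      _ = a * a * (((a : Y)⁻¹ * b) * ((a : Y)⁻¹ * b)) := by group
      _ = a * a := by rw [C.exp _ hr, mul_one]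
  refine ⟨q, ⟨L.exp, fun r => Subtype.ext (C.exp r r.2), fun u v w => ?_⟩, hspec⟩
  obtain ⟨a, rfl⟩ := L.surj u
  obtain ⟨b, rfl⟩ := L.surj v
  obtain ⟨c, rfl⟩ := L.surj w
  let κ : ∀ x y : P, R := fun x y => ⟨(y : Y) * x * (y : Y)⁻¹ * (x : Y)⁻¹, (C.sq_mul x.2 y.2).1⟩
  have h2 : ∀ x y : P, q (L.p x * L.p y) = κ x y * q (L.p x) * q (L.p y) := fun x y => Subtype.ext (by
    rw [← map_mul, hspec, Subgroup.coe_mul, Subgroup.coe_mul, Subgroup.coe_mul, hspec, hspec]
    exact (C.sq_mul x.2 y.2).2)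
  have hbil : κ (a * b) c = κ a c * κ b c := Subtype.ext (C.kappa_mul a.2 b.2 c.2)
  have hexpR : ∀ r : R, r * r = 1 := fun r => Subtype.ext (C.exp r r.2)
  rw [← map_mul L.p a b, h2 (a * b) c, hbil, map_mul, h2 a b, h2 a c, h2 b c]
  have key : ∀ a b c x y z : R, a * b * (c * x * y) * z = c * x * y * (a * x * z) * (b * y * z) * x * y * z := by
    intro a b c x y z
    have e : c * x * y * (a * x * z) * (b * y * z) * x * y * z =
        a * b * (c * x * y) * z * ((x * x) * (y * y) * (z * z)) := by ac_rfl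
    simp only [e, hexpR, one_mul, mul_one]
  exact key _ _ _ _ _ _

theorem central_of_minimal (E : Setup π P) {R : Subgroup Y} [R.Normal] (hR : R ≤ P) (hne : R ≠ ⊥)
    (hmin : ∀ N : Subgroup Y, N.Normal → N ≤ R → N = ⊥ ∨ N = R) :
    (∀ a ∈ P, ∀ r ∈ R, a * r = r * a) ∧ ∀ r ∈ R, r * r = 1 := by
  haveI : Fact (Nat.Prime 2) := ⟨Nat.prime_two⟩
  haveI := E.normal
  haveI : Group.IsNilpotent P := E.two.isNilpotent
  set Z := (center P).map P.subtype
  haveI : Z.Normal := ConjAct.normal_of_characteristic_of_normal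
  have hne' : R ⊓ Z ≠ ⊥ := by
    have h := Cfsg.Lib.Coprime.inf_center_ne_bot (R.subgroupOf P) (fun e => hne (by
      rw [← map_subgroupOf_eq_of_le hR, e, Subgroup.map_bot]))
    obtain ⟨⟨x, hx⟩, hx1⟩ := Subgroup.ne_bot_iff_exists_ne_one.1 h
    intro e
    have : (x : Y) ∈ R ⊓ Z := Subgroup.mem_inf.2 ⟨mem_subgroupOf.1 (Subgroup.mem_inf.1 hx).1,
      mem_map_of_mem _ (Subgroup.mem_inf.1 hx).2⟩
    rw [e, Subgroup.mem_bot] at this
    exact hx1 (Subtype.ext (Subtype.ext this))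
  have hRZ : R ≤ Z := by
    rcases hmin (R ⊓ Z) inferInstance inf_le_left with h | h
    · exact absurd h hne'
    · exact inf_eq_left.1 h
  have hcent : ∀ a ∈ P, ∀ r ∈ R, a * r = r * a := by
    intro a ha r hr
    obtain ⟨z, hz, rfl⟩ := hRZ hr
    exact congrArg Subtype.val (mem_center_iff.1 hz ⟨a, ha⟩)
  refine ⟨hcent, ?_⟩
  let T : Subgroup Y :=
    { carrier := {r | r ∈ R ∧ r * r = 1}
      one_mem' := ⟨one_mem _, one_mul _⟩
      mul_mem' := fun {a b} ha hb => ⟨mul_mem ha.1 hb.1, by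
        rw [mul_assoc, ← mul_assoc b a b, hcent b (hR hb.1) a ha.1, mul_assoc, hb.2, mul_one, ha.2]⟩
      inv_mem' := fun {a} ha => ⟨inv_mem ha.1, by rw [← mul_inv_rev, ha.2, inv_one]⟩ }
  haveI : T.Normal := ⟨fun n hn g => ⟨Normal.conj_mem inferInstance n hn.1 g, by
    rw [show g * n * g⁻¹ * (g * n * g⁻¹) = g * (n * n) * g⁻¹ by group, hn.2, mul_one, mul_inv_cancel]⟩⟩
  rcases hmin T inferInstance (fun r hr => hr.1) with h | h
  · exfalso
    have h2 : 2 ∣ Nat.card R := by
      obtain ⟨k, hk⟩ := IsPGroup.iff_card.1 (E.two.to_le hR)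
      rw [hk]
      refine dvd_pow_self 2 fun h0 => hne (Subgroup.card_eq_one.1 ?_)
      rw [hk, h0, pow_zero]
    obtain ⟨r, hr⟩ := exists_prime_orderOf_dvd_card' 2 h2
    have : (r : Y) ∈ T := ⟨r.2, by
      have h1 := pow_orderOf_eq_one r
      rw [hr, pow_two] at h1
      exact congrArg Subtype.val h1⟩
    rw [h, Subgroup.mem_bot] at this
    rw [Subtype.ext (a1 := r) (a2 := 1) this, orderOf_one] at hr
    omega
  · intro r hr
    exact (h.symm ▸ hr : r ∈ T).2

theorem card_eq_two_of_trivial (E : Setup π P) {R : Subgroup Y} [R.Normal] (hR : R ≤ P) (hne : R ≠ ⊥)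
    (hmin : ∀ N : Subgroup Y, N.Normal → N ≤ R → N = ⊥ ∨ N = R) (hfix : ∀ (y : Y), ∀ r ∈ R, y * r * y⁻¹ = r) :
    Nat.card R = 2 := by
  obtain ⟨-, hexp⟩ := central_of_minimal E hR hne hmin
  obtain ⟨⟨r, hr⟩, hr1⟩ := Subgroup.ne_bot_iff_exists_ne_one.1 hne
  have hr1' : r ≠ 1 := fun e => hr1 (Subtype.ext e)
  haveI : (zpowers r).Normal := ⟨fun n hn g => by
    rw [hfix g n ((zpowers_le.2 hr) hn)]; exact hn⟩
  rcases hmin (zpowers r) inferInstance (zpowers_le.2 hr) with h | h
  · exact absurd (zpowers_eq_bot.1 h) hr1'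
  · rw [← h, Nat.card_zpowers]
    exact orderOf_eq_prime (by rw [pow_two, hexp r hr]) hr1'

theorem sq_subgroup_bound (E : Setup π P) {N U : Subgroup Y} (hn : U ≤ normalizer (N : Set Y))
    (hsq : ∀ u ∈ U, u * u ∈ N) : Nat.card U ≤ Nat.card N * 16 := by
  have h := Cfsg.Lib.SectionalRank.sectional_bound E.rank hn hsq
  change N.relIndex U ≤ 16 at h
  rw [← (N.subgroupOf U).card_mul_index]
  refine Nat.mul_le_mul ?_ h
  exact Nat.card_le_card_of_injective (fun x : N.subgroupOf U => (⟨((x : U) : Y), mem_subgroupOf.1 x.2⟩ : N))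
    fun a b e => Subtype.ext (Subtype.ext (congrArg (fun x : N => (x : Y)) e))

end Cfsg.Lib.AltFiveRadical
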