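import Cfsg.Agent.SolvStruct.SymSixSection.Linear

/-!
Faithful actions of the alternating group of degree five on elementary abelian groups of order at most sixteen.
-/

set_option autoImplicit false
set_option linter.unusedSectionVars false
set_option linter.style.haveILetI false
set_option maxRecDepth 8000

namespace Cfsg.Lib.AltFiveRadical

open Subgroup Equiv
open Cfsg.Lib.SymSixSection (fix mem_fix fix_ne_top)

abbrev A5 := ↥(alternatingGroup (Fin 5))

/-- membership in the four-group fixing the letter `i` -/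
def InKl (i : Fin 5) (σ : A5) : Prop := (σ : Perm (Fin 5)) i = i ∧ σ * σ = 1

instance (i : Fin 5) : DecidablePred (InKl i) := fun σ => inferInstanceAs (Decidable (_ ∧ _))

theorem kl_gens : ∀ i : Fin 5, ∃ a b : A5, InKl i a ∧ InKl i b ∧ a * b = b * a ∧ a ≠ 1 ∧
    ∀ σ : A5, InKl i σ → σ = 1 ∨ σ = a ∨ σ = b ∨ σ = a * b := by
  decide +kernel

theorem kl_five : ∀ i j : Fin 5, i ≠ j → ∃ a b : A5, InKl i a ∧ InKl j b ∧ (a * b) ^ 5 = 1 ∧ a * b ≠ 1 := by
  decide +kernel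

theorem exists_map : ∀ i j : Fin 5, ∃ σ : A5, (σ : Perm (Fin 5)) i = j := by
  decide +kernel

theorem exists_map_pair : ∀ i j k l : Fin 5, i ≠ j → k ≠ l → ∃ σ : A5, (σ : Perm (Fin 5)) i = k ∧
    (σ : Perm (Fin 5)) j = l := by
  decide +kernel

theorem exists_three : ∀ i j : Fin 5, i ≠ j → ∃ g : A5, g ^ 3 = 1 ∧ g ≠ 1 ∧ (g : Perm (Fin 5)) i = i ∧
    (g : Perm (Fin 5)) j = j ∧ ∀ k, k ≠ i → k ≠ j → (g : Perm (Fin 5)) k ≠ k := by
  decide +kernel

theorem three_fix : ∀ g : A5, g ^ 3 = 1 → g ≠ 1 → ∃ i j : Fin 5, i ≠ j ∧ (g : Perm (Fin 5)) i = i ∧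
    (g : Perm (Fin 5)) j = j ∧ ∀ k, k ≠ i → k ≠ j → (g : Perm (Fin 5)) k ≠ k := by
  decide +kernel

theorem three_swap : ∀ g : A5, g ^ 3 = 1 → g ≠ 1 → ∀ i : Fin 5, (g : Perm (Fin 5)) i = i → ∀ j : Fin 5,
    (g : Perm (Fin 5)) j = j → i ≠ j → ∀ σ : A5, (σ : Perm (Fin 5)) i = j → (σ : Perm (Fin 5)) j = i →
    σ * g * σ⁻¹ = g ∨ σ * g * σ⁻¹ = g * g := by
  decide +kernel

theorem inv_app {α : Type*} (p : Perm α) (x : α) : p⁻¹ (p x) = x := p.symm_apply_apply x

theorem five_elt : ∃ f t : A5, f ^ 5 = 1 ∧ f ≠ 1 ∧ t * t = 1 ∧ t * f * t = f⁻¹ := by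
  decide +kernel

theorem simple : IsSimpleGroup A5 := alternatingGroup.isSimpleGroup (by simp)

theorem not_solvable : ¬ Group.IsSolvable A5 := by
  intro h
  haveI := simple
  haveI := h
  have := (IsSimpleGroup.comm_iff_isSolvable (G := A5)).2 h
  obtain ⟨a, b, hab⟩ : ∃ a b : A5, a * b ≠ b * a := by decide +kernel
  exact hab (this a b)

section

variable {V : Type*} [CommGroup V] [Finite V] (ρ : A5 →* MulAut V)

/-- the common fixed points of the four-group fixing `i` -/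
def line (i : Fin 5) : Subgroup V where
  carrier := {v | ∀ σ, InKl i σ → ρ σ v = v}
  one_mem' := fun _ _ => map_one _
  mul_mem' := fun {a b} ha hb σ hσ => by rw [map_mul, ha σ hσ, hb σ hσ]
  inv_mem' := fun {a} ha σ hσ => by rw [map_inv, ha σ hσ]

theorem mem_line {i : Fin 5} {v : V} : v ∈ line ρ i ↔ ∀ σ, InKl i σ → ρ σ v = v := Iff.rfl

theorem map_line (σ : A5) {i : Fin 5} {v : V} (hv : v ∈ line ρ i) : ρ σ v ∈ line ρ ((σ : Perm (Fin 5)) i) := by
  intro τ hτ
  have hk : InKl i (σ⁻¹ * τ * σ) := by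
    constructor
    · show ((σ : Perm (Fin 5))⁻¹ * (τ : Perm (Fin 5)) * (σ : Perm (Fin 5))) i = i
      rw [Perm.mul_apply, Perm.mul_apply, hτ.1, inv_app]
    · calc σ⁻¹ * τ * σ * (σ⁻¹ * τ * σ) = σ⁻¹ * (τ * τ) * σ := by group
        _ = 1 := by rw [hτ.2, mul_one, inv_mul_cancel]
  have h1 := hv _ hk
  rw [map_mul, map_mul, map_inv, MulAut.mul_apply, MulAut.mul_apply] at h1
  exact (congrArg (ρ σ) h1).symm.trans (by rw [← MulAut.mul_apply, mul_inv_cancel, MulAut.one_apply]) |>.symm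

theorem line_card (i j : Fin 5) : Nat.card (line ρ i) = Nat.card (line ρ j) := by
  obtain ⟨σ, hσ⟩ := exists_map i j
  refine Nat.card_congr (Equiv.subtypeEquiv (ρ σ).toEquiv fun v => ⟨fun h => hσ ▸ map_line ρ σ h, fun h => ?_⟩)
  have h1 := map_line ρ σ⁻¹ (i := j) h
  rw [show ((σ⁻¹ : A5) : Perm (Fin 5)) j = i by
    show (σ : Perm (Fin 5))⁻¹ j = i
    rw [← hσ, inv_app]] at h1
  show v ∈ line ρ i
  simpa [map_inv] using h1

/-- the natural type -/
structure Natural : Prop where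
  card_line : ∀ i, Nat.card (line ρ i) = 4
  fix_three : ∀ g : A5, g ^ 3 = 1 → g ≠ 1 → fix (ρ g) = ⊥
  cover : ∀ v : V, ∃ i, v ∈ line ρ i

/-- the orthogonal type -/
structure Orthogonal (o : Fin 5 → V) : Prop where
  ne_one : ∀ i, o i ≠ 1
  inj : Function.Injective o
  mem : ∀ i, o i ∈ line ρ i
  line_eq : ∀ i, ∀ v ∈ line ρ i, v = 1 ∨ v = o i
  smul : ∀ (σ : A5) (i : Fin 5), ρ σ (o i) = o ((σ : Perm (Fin 5)) i)
  fix_three : ∀ (g : A5) (i j : Fin 5), g ^ 3 = 1 → g ≠ 1 → i ≠ j → (g : Perm (Fin 5)) i = i →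
    (g : Perm (Fin 5)) j = j → Nat.card (fix (ρ g)) = 4 ∧ ∀ v, ρ g v = v → v ∈ ({1, o i, o j, o i * o j} : Set V)
  prod_eq_one : o 0 * o 1 * o 2 * o 3 * o 4 = 1
  gen : closure (Set.range o) = ⊤

variable (hexp : ∀ a : V, a * a = 1) (hle : Nat.card V ≤ 16) (hρ : Function.Injective ρ)
include hexp hle hρ

theorem ne_one_of {σ : A5} (h : σ ≠ 1) : ρ σ ≠ 1 := fun e => h (hρ (e.trans (map_one ρ).symm))

theorem exists_pow_card : ∃ n ≤ 4, Nat.card V = 2 ^ n := by
  haveI : Fact (Nat.Prime 2) := ⟨Nat.prime_two⟩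
  obtain ⟨n, hn⟩ := IsPGroup.iff_card.1 (fun a : V => ⟨1, by rw [pow_one, pow_two]; exact hexp a⟩ : IsPGroup 2 V)
  refine ⟨n, ?_, hn⟩
  by_contra h5
  have := Nat.pow_le_pow_right (n := 2) two_pos (show 5 ≤ n by omega)
  omega

theorem five_facts {f : A5} (hf : f ^ 5 = 1) (hf1 : f ≠ 1) : Nat.card V = 16 ∧ fix (ρ f) = ⊥ := by
  obtain ⟨n, hn4, hn⟩ := exists_pow_card ρ hexp hle hρ
  haveI : Fact (Nat.Prime 5) := ⟨by norm_num⟩
  have hP : IsPGroup 5 (zpowers (ρ f)) := fun ⟨x, hx⟩ => by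
    obtain ⟨i, rfl⟩ := mem_zpowers_iff.1 hx
    exact ⟨1, Subtype.ext (show (ρ f ^ i) ^ (5 ^ 1) = 1 by
      rw [pow_one, ← zpow_natCast, ← zpow_mul, mul_comm, zpow_mul, zpow_natCast, ← map_pow, hf, map_one, one_zpow])⟩
  have e : MulAction.fixedPoints (zpowers (ρ f)) V = (fix (ρ f) : Set V) := by
    ext a
    constructor
    · intro h
      exact h ⟨ρ f, mem_zpowers _⟩
    · rintro (ha : ρ f a = a) ⟨x, hx⟩
      have h1 : ρ f ∈ MulAction.stabilizer (MulAut V) a := ha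
      exact (zpowers_le.2 h1) hx
  have h := hP.card_modEq_card_fixedPoints V
  rw [Nat.card_congr (Equiv.setCongr e), hn] at h
  change 2 ^ n % 5 = Nat.card (fix (ρ f)) % 5 at h
  have hd : Nat.card (fix (ρ f)) ∣ 2 ^ n := hn ▸ Subgroup.card_subgroup_dvd_card _
  obtain ⟨i, hi, hi'⟩ := (Nat.dvd_prime_pow Nat.prime_two).1 hd
  have hin : i ≠ n := fun e => fix_ne_top (ne_one_of ρ hexp hle hρ hf1) (eq_top_of_card_eq _ (by rw [hi', e, hn]))
  rw [hi'] at h
  have hi0 : i = 0 ∧ n = 4 := by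
    interval_cases n <;> interval_cases i <;> simp at h hin ⊢
  obtain ⟨rfl, rfl⟩ := hi0
  exact ⟨hn, Subgroup.card_eq_one.1 hi'⟩

theorem card_eq : Nat.card V = 16 := by
  obtain ⟨f, -, hf, hf1, -⟩ := five_elt
  exact (five_facts ρ hexp hle hρ hf hf1).1

theorem eq_top_of_invariant {W : Subgroup V} (hW : W ≠ ⊥) (hinv : ∀ σ : A5, ∀ w ∈ W, ρ σ w ∈ W) : W = ⊤ := by
  obtain ⟨f, -, hf, hf1, -⟩ := five_elt
  obtain ⟨hV, hfix⟩ := five_facts ρ hexp hle hρ hf hf1
  obtain ⟨i, hi, hi'⟩ := (Nat.dvd_prime_pow Nat.prime_two).1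
    ((hV.trans (show 16 = 2 ^ 4 from rfl)) ▸ Subgroup.card_subgroup_dvd_card W)
  let S : Set V := (W : Set V) \ {1}
  haveI : Fact (Nat.Prime 5) := ⟨by norm_num⟩
  have hP : IsPGroup 5 (zpowers f) := fun ⟨x, hx⟩ => by
    obtain ⟨k, rfl⟩ := mem_zpowers_iff.1 hx
    exact ⟨1, Subtype.ext (show (f ^ k) ^ (5 ^ 1) = 1 by
      rw [pow_one, ← zpow_natCast, ← zpow_mul, mul_comm, zpow_mul, zpow_natCast, hf, one_zpow])⟩
  letI : MulAction (zpowers f) W :=
    { smul := fun s w => ⟨ρ (s : A5) (w : V), hinv _ _ w.2⟩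
      one_smul := fun w => Subtype.ext (by show ρ (1 : A5) (w : V) = w; rw [map_one]; rfl)
      mul_smul := fun s s' w => Subtype.ext (by
        show ρ ((s : A5) * (s' : A5)) (w : V) = ρ (s : A5) (ρ (s' : A5) (w : V))
        rw [map_mul]; rfl) }
  have h := hP.card_modEq_card_fixedPoints W
  have h1 : Nat.card (MulAction.fixedPoints (zpowers f) W) = 1 := by
    rw [Nat.card_eq_one_iff_unique]
    refine ⟨⟨fun a b => ?_⟩, ⟨⟨1, fun s => Subtype.ext (map_one (ρ (s : A5)))⟩⟩⟩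
    have key : ∀ a : MulAction.fixedPoints (zpowers f) W, ((a : W) : V) = 1 := fun a => by
      have : ((a : W) : V) ∈ fix (ρ f) := congrArg Subtype.val (a.2 ⟨f, mem_zpowers f⟩)
      rwa [hfix, Subgroup.mem_bot] at this
    exact Subtype.ext (Subtype.ext ((key a).trans (key b).symm))
  rw [h1, hi'] at h
  change 2 ^ i % 5 = 1 % 5 at h
  have hi0 : i ≠ 0 := fun e => hW (Subgroup.card_eq_one.1 (by rw [hi', e, pow_zero]))
  refine eq_top_of_card_eq _ ?_
  rw [hi', hV]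
  interval_cases i <;> simp at h hi0 ⊢

theorem line_inf {i j : Fin 5} (h : i ≠ j) : line ρ i ⊓ line ρ j = ⊥ := by
  obtain ⟨a, b, ha, hb, h5, h1⟩ := kl_five i j h
  rw [eq_bot_iff]
  rintro v ⟨hi, hj⟩
  rw [← (five_facts ρ hexp hle hρ h5 h1).2]
  show ρ (a * b) v = v
  rw [map_mul, MulAut.mul_apply, hj b hb, hi a ha]

theorem line_ne_bot (i : Fin 5) : line ρ i ≠ ⊥ := by
  obtain ⟨a, b, ha, hb, hab, -, hall⟩ := kl_gens i
  intro hbot
  have step : ∀ (s : A5), s * s = 1 → ∀ W : Subgroup V, (∀ w ∈ W, ρ s w ∈ W) → W ≠ ⊥ →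
      ∃ w ∈ W, w ≠ 1 ∧ ρ s w = w := by
    intro s hs W hW hne
    obtain ⟨w, hw, hw1⟩ := (Subgroup.ne_bot_iff_exists_ne_one.1 hne : ∃ x : W, x ≠ 1) |> fun ⟨x, hx⟩ =>
      (⟨x, x.2, fun e => hx (Subtype.ext e)⟩ : ∃ w, w ∈ W ∧ w ≠ 1)
    by_cases h : ρ s w = w
    · exact ⟨w, hw, hw1, h⟩
    refine ⟨w * ρ s w, mul_mem hw (hW w hw), fun e => h ?_, ?_⟩
    · exact Cfsg.Lib.SymSixSection.eq_of_mul_one hexp e
    · rw [map_mul, ← MulAut.mul_apply, ← map_mul, hs, map_one, MulAut.one_apply, mul_comm]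
  have hne : (⊤ : Subgroup V) ≠ ⊥ := by
    intro e
    have hV := card_eq ρ hexp hle hρ
    rw [← Subgroup.card_top, e, Subgroup.card_bot] at hV
    omega
  obtain ⟨w, -, hw1, hwa⟩ := step a ha.2 ⊤ (fun _ _ => mem_top _) hne
  obtain ⟨u, hu, hu1, hub⟩ := step b hb.2 (fix (ρ a)) (fun x (hx : ρ a x = x) => by
    show ρ a (ρ b x) = ρ b x
    rw [← MulAut.mul_apply, ← map_mul, hab, map_mul, MulAut.mul_apply, hx])
    (fun e => hw1 (by
      have hm : w ∈ fix (ρ a) := hwa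
      rwa [e, Subgroup.mem_bot] at hm))
  have hm : u ∈ line ρ i := fun σ hσ => by
    rcases hall σ hσ with rfl | rfl | rfl | rfl
    · rw [map_one]; rfl
    · exact hu
    · exact hub
    · rw [map_mul, MulAut.mul_apply, hub]; exact hu
  rw [hbot, Subgroup.mem_bot] at hm
  exact hu1 hm

theorem fix_three_card {g : A5} (hg : g ^ 3 = 1) (hg1 : g ≠ 1) :
    fix (ρ g) = ⊥ ∨ Nat.card (fix (ρ g)) = 4 := by
  have hV := card_eq ρ hexp hle hρ
  have h := Cfsg.Lib.SymSixSection.card_fix_modEq (V := V) (φ := ρ g) (by rw [← map_pow, hg, map_one])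
  obtain ⟨i, hi, hi'⟩ := (Nat.dvd_prime_pow Nat.prime_two).1
    ((hV.trans (show 16 = 2 ^ 4 from rfl)) ▸ Subgroup.card_subgroup_dvd_card (fix (ρ g)))
  have hi4 : i ≠ 4 := fun e => fix_ne_top (ne_one_of ρ hexp hle hρ hg1) (eq_top_of_card_eq _ (by rw [hi', e, hV]; rfl))
  rw [hV, hi'] at h
  change 16 % 3 = 2 ^ i % 3 at h
  interval_cases i <;> simp at h hi4
  · exact Or.inl (Subgroup.card_eq_one.1 hi')
  · exact Or.inr hi'

theorem line_card_cases (i : Fin 5) : Nat.card (line ρ i) = 2 ∨ Nat.card (line ρ i) = 4 := by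
  classical
  have hV := card_eq ρ hexp hle hρ
  obtain ⟨k, hk, hk'⟩ := (Nat.dvd_prime_pow Nat.prime_two).1
    ((hV.trans (show 16 = 2 ^ 4 from rfl)) ▸ Subgroup.card_subgroup_dvd_card (line ρ i))
  have h0 : k ≠ 0 := fun e => line_ne_bot ρ hexp hle hρ i (Subgroup.card_eq_one.1 (by rw [hk', e, pow_zero]))
  by_contra hcon
  have h8 : 8 ≤ Nat.card (line ρ i) := by
    rw [hk'] at hcon ⊢
    interval_cases k <;> simp at hcon ⊢ <;> omega
  obtain ⟨j, hj⟩ := exists_ne i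
  let m : line ρ i × line ρ j → V := fun x => x.1.1 * x.2.1
  have hm : Function.Injective m := by
    rintro ⟨⟨a, ha⟩, ⟨b, hb⟩⟩ ⟨⟨a', ha'⟩, ⟨b', hb'⟩⟩ (e : a * b = a' * b')
    have e1 : a'⁻¹ * a = b' * b⁻¹ := by rw [eq_mul_inv_iff_mul_eq, mul_assoc, e, inv_mul_cancel_left]
    have e2 : a'⁻¹ * a ∈ line ρ i ⊓ line ρ j :=
        Subgroup.mem_inf.2 ⟨mul_mem (inv_mem ha') ha, by rw [e1]; exact mul_mem hb' (inv_mem hb)⟩
    rw [line_inf ρ hexp hle hρ hj.symm, Subgroup.mem_bot] at e2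
    obtain rfl : a = a' := (inv_mul_eq_one.1 e2).symm
    exact Prod.ext rfl (Subtype.ext (mul_left_cancel e))
  have h2 := Nat.card_le_card_of_injective m hm
  rw [Nat.card_prod, hV, line_card ρ j i] at h2
  have := Nat.mul_le_mul h8 h8
  omega

theorem natural_of_card (h4 : ∀ i, Nat.card (line ρ i) = 4) : Natural ρ := by
  classical
  have hV := card_eq ρ hexp hle hρ
  have hcover : ∀ v : V, ∃ i, v ∈ line ρ i := by
    intro v
    by_contra hno
    push Not at hno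
    have hv1 : v ≠ 1 := fun e => hno 0 (e ▸ one_mem _)
    let m : Option (Option (Σ i, {x : line ρ i // x ≠ 1})) → V := fun y =>
      match y with
      | none => 1
      | some none => v
      | some (some p) => (p.2.1 : V)
    have hne1 : ∀ p : Σ i, {x : line ρ i // x ≠ 1}, (p.2.1 : V) ≠ 1 := fun p e => p.2.2 (Subtype.ext e)
    have hnev : ∀ p : Σ i, {x : line ρ i // x ≠ 1}, (p.2.1 : V) ≠ v := fun p e => hno p.1 (e ▸ p.2.1.2)
    have hm : Function.Injective m := by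
      rintro (_ | _ | ⟨i, x⟩) (_ | _ | ⟨i', x'⟩) e <;> simp only [m] at e
      · rfl
      · exact absurd e.symm hv1
      · exact absurd e.symm (hne1 ⟨i', x'⟩)
      · exact absurd e hv1
      · rfl
      · exact absurd e.symm (hnev ⟨i', x'⟩)
      · exact absurd e (hne1 ⟨i, x⟩)
      · exact absurd e (hnev ⟨i, x⟩)
      · obtain rfl : i = i' := by
          by_contra hne
          have : (x.1 : V) ∈ line ρ i ⊓ line ρ i' := Subgroup.mem_inf.2 ⟨x.1.2, by rw [e]; exact x'.1.2⟩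
          rw [line_inf ρ hexp hle hρ hne, Subgroup.mem_bot] at this
          exact hne1 ⟨i, x⟩ this
        rw [Subtype.ext (Subtype.ext e)]
    have h2 := Nat.card_le_card_of_injective m hm
    haveI := fun i => Fintype.ofFinite (line ρ i)
    have h3 : ∀ i, Fintype.card {x : line ρ i // x ≠ 1} = 3 := fun i => by
      rw [Fintype.card_subtype_compl, Fintype.card_subtype_eq, ← Nat.card_eq_fintype_card, h4]
    rw [Nat.card_eq_fintype_card, Fintype.card_option, Fintype.card_option, Fintype.card_sigma, hV] at h2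
    simp [h3] at h2
  refine ⟨h4, fun g hg hg1 => ?_, hcover⟩
  obtain ⟨i, j, hij, hgi, hgj, hgk⟩ := three_fix g hg hg1
  rw [eq_bot_iff]
  intro v hv
  rw [Subgroup.mem_bot]
  by_contra hv1
  have hv' : ρ g v = v := hv
  obtain ⟨k, hk⟩ := hcover v
  have hk2 : k = i ∨ k = j := by
    by_contra hne
    push Not at hne
    have h1 := map_line ρ g hk
    rw [hv'] at h1
    have : v ∈ line ρ k ⊓ line ρ ((g : Perm (Fin 5)) k) := ⟨hk, h1⟩
    rw [line_inf ρ hexp hle hρ (Ne.symm (hgk k hne.1 hne.2)), Subgroup.mem_bot] at this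
    exact hv1 this
  -- the element is trivial on a line, hence on both
  have htriv : ∀ a, a = i ∨ a = j → v ∈ line ρ a → ∀ x ∈ line ρ a, ρ g x = x := by
    intro a ha hva x hx
    by_contra hmv
    have hg3 : ρ g ^ 3 = 1 := by rw [← map_pow, hg, map_one]
    have hinv : ∀ y ∈ line ρ a, ρ g y ∈ line ρ a := fun y hy => by
      have := map_line ρ g hy
      rcases ha with rfl | rfl
      · rwa [hgi] at this
      · rwa [hgj] at this
    obtain ⟨hall, -, h333, h2a, h2b, -⟩ := Cfsg.Lib.SymSixSection.orbit_four hexp (h4 a) hg3 hinv hx hmv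
    rcases hall v hva with rfl | rfl | rfl | rfl
    · exact hv1 rfl
    · exact hmv hv'
    · exact h2b hv'
    · exact h2a (hv'.symm.trans h333)
  have hother : ∀ a b, (a = i ∧ b = j) ∨ (a = j ∧ b = i) → (∀ x ∈ line ρ a, ρ g x = x) →
      ∀ x ∈ line ρ b, ρ g x = x := by
    intro a b hab htr x hx
    obtain ⟨σ, hσi, hσj⟩ := exists_map_pair i j j i hij hij.symm
    have hconj := three_swap g hg hg1 i hgi j hgj hij σ hσi hσj
    have hb : ρ σ⁻¹ x ∈ line ρ a := by
      have h1 := map_line ρ σ⁻¹ hx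
      have : ((σ⁻¹ : A5) : Perm (Fin 5)) b = a := by
        show (σ : Perm (Fin 5))⁻¹ b = a
        rcases hab with ⟨rfl, rfl⟩ | ⟨rfl, rfl⟩
        · rw [← hσi, inv_app]
        · rw [← hσj, inv_app]
      rwa [this] at h1
    have h1 : ρ (σ * g * σ⁻¹) x = x := by
      rw [map_mul, map_mul, MulAut.mul_apply, MulAut.mul_apply, htr _ hb, ← MulAut.mul_apply, ← map_mul,
        mul_inv_cancel, map_one, MulAut.one_apply]
    rcases hconj with e | e <;> rw [e] at h1
    · exact h1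
    · rw [map_mul, MulAut.mul_apply] at h1
      have h3 : ρ g (ρ g (ρ g x)) = x := by
        rw [← MulAut.mul_apply, ← MulAut.mul_apply, ← map_mul, ← map_mul, show g * g * g = g ^ 3 by rw [pow_succ, pow_two], hg, map_one]; rfl
      conv_lhs => rw [← h1]
      exact h3
  obtain ⟨htri, htrj⟩ : (∀ x ∈ line ρ i, ρ g x = x) ∧ ∀ x ∈ line ρ j, ρ g x = x := by
    rcases hk2 with rfl | rfl
    · have := htriv _ (Or.inl rfl) hk
      exact ⟨this, hother _ _ (Or.inl ⟨rfl, rfl⟩) this⟩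
    · have := htriv _ (Or.inr rfl) hk
      exact ⟨hother _ _ (Or.inr ⟨rfl, rfl⟩) this, this⟩
  have htop : fix (ρ g) = ⊤ := by
    refine eq_top_of_le_card _ ?_
    let m : line ρ i × line ρ j → fix (ρ g) := fun x => ⟨x.1.1 * x.2.1, mul_mem
      (show x.1.1 ∈ fix (ρ g) from htri _ x.1.2) (show x.2.1 ∈ fix (ρ g) from htrj _ x.2.2)⟩
    have hm : Function.Injective m := by
      rintro ⟨⟨a, ha⟩, ⟨b, hb⟩⟩ ⟨⟨a', ha'⟩, ⟨b', hb'⟩⟩ e
      have e : a * b = a' * b' := congrArg Subtype.val e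
      have e1 : a'⁻¹ * a = b' * b⁻¹ := by rw [eq_mul_inv_iff_mul_eq, mul_assoc, e, inv_mul_cancel_left]
      have e2 : a'⁻¹ * a ∈ line ρ i ⊓ line ρ j :=
        Subgroup.mem_inf.2 ⟨mul_mem (inv_mem ha') ha, by rw [e1]; exact mul_mem hb' (inv_mem hb)⟩
      rw [line_inf ρ hexp hle hρ hij, Subgroup.mem_bot] at e2
      obtain rfl : a = a' := (inv_mul_eq_one.1 e2).symm
      exact Prod.ext rfl (Subtype.ext (mul_left_cancel e))
    have := Nat.card_le_card_of_injective m hm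
    rw [Nat.card_prod, h4, h4] at this
    rw [hV]
    simpa using this
  exact fix_ne_top (ne_one_of ρ hexp hle hρ hg1) htop

theorem orthogonal_of_card (h2 : ∀ i, Nat.card (line ρ i) = 2) : ∃ o, Orthogonal ρ o := by
  classical
  have hex : ∀ i, ∃ v : V, v ≠ 1 ∧ v ∈ line ρ i ∧ ∀ w ∈ line ρ i, w = 1 ∨ w = v := by
    intro i
    obtain ⟨x, y, hxy, hall⟩ := Nat.card_eq_two_iff.1 (h2 i)
    obtain ⟨z, hz⟩ : ∃ z : line ρ i, z ≠ 1 := by
      by_cases h : x = 1
      · exact ⟨y, fun e => hxy (h.trans e.symm)⟩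
      · exact ⟨x, h⟩
    refine ⟨z, fun e => hz (Subtype.ext e), z.2, fun w hw => ?_⟩
    by_contra hne
    push Not at hne
    have h3 : ({⟨w, hw⟩, 1, z} : Finset (line ρ i)).card = 3 := by
      rw [Finset.card_insert_of_notMem (by simp [Subtype.ext_iff, hne.1, hne.2]),
        Finset.card_insert_of_notMem (by simp [Ne.symm hz]), Finset.card_singleton]
    haveI := Fintype.ofFinite (line ρ i)
    have h4 := Finset.card_le_univ ({⟨w, hw⟩, 1, z} : Finset (line ρ i))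
    rw [h3, ← Nat.card_eq_fintype_card, h2] at h4
    omega
  choose o ho1 ho ho' using hex
  have hinj : Function.Injective o := by
    intro i j e
    by_contra hne
    have : o i ∈ line ρ i ⊓ line ρ j := ⟨ho i, e ▸ ho j⟩
    rw [line_inf ρ hexp hle hρ hne, Subgroup.mem_bot] at this
    exact ho1 i this
  have hsmul : ∀ (σ : A5) (i : Fin 5), ρ σ (o i) = o ((σ : Perm (Fin 5)) i) := by
    intro σ i
    rcases ho' _ _ (map_line ρ σ (ho i)) with h | h
    · exact absurd ((ρ σ).injective (h.trans (map_one _).symm)) (ho1 i)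
    · exact h
  refine ⟨o, ho1, hinj, ho, ho', hsmul, fun g i j hg hg1 hij hgi hgj => ?_, ?_, ?_⟩
  · have hi : o i ∈ fix (ρ g) := (hsmul g i).trans (by rw [hgi])
    have hj : o j ∈ fix (ρ g) := (hsmul g j).trans (by rw [hgj])
    have h4 : Nat.card (fix (ρ g)) = 4 := by
      rcases fix_three_card ρ hexp hle hρ hg hg1 with h | h
      · rw [h, Subgroup.mem_bot] at hi
        exact absurd hi (ho1 i)
      · exact h
    refine ⟨h4, fun v hv => ?_⟩
    by_contra hne
    simp only [Set.mem_insert_iff, Set.mem_singleton_iff, not_or] at hne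
    obtain ⟨n1, n2, n3, n4⟩ := hne
    have nij : o i ≠ o j := fun e => hij (hinj e)
    have n5 : o i * o j ≠ 1 := fun e => nij (Cfsg.Lib.SymSixSection.eq_of_mul_one hexp e).symm
    have hsub : ({v, 1, o i, o j, o i * o j} : Finset V) ⊆ ((fix (ρ g) : Subgroup V) : Set V).toFinite.toFinset := by
      intro y hy
      simp only [Finset.mem_insert, Finset.mem_singleton] at hy
      rw [Set.Finite.mem_toFinset]
      rcases hy with rfl | rfl | rfl | rfl | rfl
      exacts [hv, one_mem _, hi, hj, mul_mem hi hj]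
    have h5 := Finset.card_le_card hsub
    rw [← Set.ncard_eq_toFinset_card _ ((fix (ρ g) : Set V).toFinite), ← Nat.card_coe_set_eq] at h5
    rw [Finset.card_insert_of_notMem (by simp [n1, n2, n3, n4]),
      Finset.card_insert_of_notMem (by simp [Ne.symm (ho1 i), Ne.symm (ho1 j), Ne.symm n5]),
      Finset.card_insert_of_notMem (by simp [nij, ho1 j]),
      Finset.card_insert_of_notMem (by simp [ho1 i]), Finset.card_singleton] at h5
    exact absurd (h5.trans h4.le) (by omega)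
  · obtain ⟨f, -, hf, hf1, -⟩ := five_elt
    have hprod : o 0 * o 1 * o 2 * o 3 * o 4 = ∏ i, o i := by
      simp [Fin.prod_univ_five]
    have : ∏ i, o i ∈ fix (ρ f) := by
      show ρ f (∏ i, o i) = _
      rw [map_prod]
      simp only [hsmul]
      exact Equiv.prod_comp (f : Perm (Fin 5)) o
    rw [(five_facts ρ hexp hle hρ hf hf1).2, Subgroup.mem_bot] at this
    rw [hprod, this]
  · refine eq_top_of_invariant ρ hexp hle hρ (fun e => ho1 0 ?_) fun σ w hw => ?_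
    · have : o 0 ∈ closure (Set.range o) := subset_closure ⟨0, rfl⟩
      rwa [e, Subgroup.mem_bot] at this
    · have hle' : (closure (Set.range o)).map (ρ σ).toMonoidHom ≤ closure (Set.range o) := by
        rw [MonoidHom.map_closure]
        refine closure_mono ?_
        rintro _ ⟨_, ⟨i, rfl⟩, rfl⟩
        exact ⟨_, (hsmul σ i).symm⟩
      exact hle' (mem_map_of_mem _ hw)

theorem dichotomy : Natural ρ ∨ ∃ o, Orthogonal ρ o := by
  rcases line_card_cases ρ hexp hle hρ 0 with h | h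
  · exact Or.inr (orthogonal_of_card ρ hexp hle hρ fun i => (line_card ρ i 0).trans h)
  · exact Or.inl (natural_of_card ρ hexp hle hρ fun i => (line_card ρ i 0).trans h)

end

end Cfsg.Lib.AltFiveRadical
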