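import Cfsg.Agent.SolvStruct.AltFiveRadical.Module

/-!
Invariant quadratic maps between modules of the alternating group of degree five over two elements.
-/

set_option autoImplicit false
set_option linter.unusedSectionVars false
set_option linter.style.haveILetI false
set_option maxRecDepth 8000

namespace Cfsg.Lib.AltFiveRadical

open Subgroup Equiv
open Cfsg.Lib.SymSixSection (fix mem_fix eq_of_mul_one)

theorem rest_pair : ∀ i j k : Fin 5, i ≠ j → i ≠ k → j ≠ k → ∃ l m : Fin 5, l ≠ m ∧ l ≠ i ∧ l ≠ j ∧ l ≠ k ∧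
    m ≠ i ∧ m ≠ j ∧ m ≠ k ∧ (Finset.univ : Finset (Fin 5)) = {i, j, k, l, m} := by
  decide +kernel

theorem other_four : ∀ i : Fin 5, ∃ j k l m : Fin 5, i ≠ j ∧ i ≠ k ∧ i ≠ l ∧ i ≠ m ∧ j ≠ k ∧ j ≠ l ∧ j ≠ m ∧
    k ≠ l ∧ k ≠ m ∧ l ≠ m := by
  decide +kernel

section orth

variable {V : Type*} [CommGroup V] [Finite V] {ρ : A5 →* MulAut V} (hexp : ∀ a : V, a * a = 1) {o : Fin 5 → V}
  (O : Orthogonal ρ o)
include hexp O

theorem Orthogonal.triple {i j k : Fin 5} (hij : i ≠ j) (hik : i ≠ k) (hjk : j ≠ k) :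
    ∃ l m : Fin 5, l ≠ m ∧ o i * o j * o k = o l * o m := by
  obtain ⟨l, m, hlm, hli, hlj, hlk, hmi, hmj, hmk, hu⟩ := rest_pair i j k hij hik hjk
  refine ⟨l, m, hlm, ?_⟩
  have h1 : ∏ x, o x = 1 := by rw [Fin.prod_univ_five]; exact O.prod_eq_one
  rw [hu, Finset.prod_insert (by simp [hij, hik, Ne.symm hli, Ne.symm hmi]),
    Finset.prod_insert (by simp [hjk, Ne.symm hlj, Ne.symm hmj]),
    Finset.prod_insert (by simp [Ne.symm hlk, Ne.symm hmk]),
    Finset.prod_insert (by simp [hlm]), Finset.prod_singleton] at h1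
  have h2 : o i * o j * o k * (o l * o m) = 1 := by
    rw [← h1]; simp only [mul_assoc]
  exact (eq_of_mul_one hexp h2).symm

theorem Orthogonal.cover (v : V) : v = 1 ∨ (∃ i, v = o i) ∨ ∃ i j, i ≠ j ∧ v = o i * o j := by
  have hv : v ∈ closure (Set.range o) := by rw [O.gen]; exact mem_top v
  induction hv using closure_induction_left with
  | one => exact Or.inl rfl
  | inv_mul_cancel x hx y hy ih =>
    obtain ⟨k, rfl⟩ := hx
    rw [Cfsg.Lib.SymSixSection.inv_self' hexp]
    rcases ih with rfl | ⟨i, rfl⟩ | ⟨i, j, hij, rfl⟩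
    · exact Or.inr (Or.inl ⟨k, mul_one _⟩)
    · by_cases h : k = i
      · exact Or.inl (by rw [h, hexp])
      · exact Or.inr (Or.inr ⟨k, i, h, rfl⟩)
    · by_cases h1 : k = i
      · exact Or.inr (Or.inl ⟨j, by rw [h1, ← mul_assoc, hexp, one_mul]⟩)
      by_cases h2 : k = j
      · exact Or.inr (Or.inl ⟨i, by rw [h2, mul_comm (o i), ← mul_assoc, hexp, one_mul]⟩)
      obtain ⟨l, m, hlm, e⟩ := O.triple hexp h1 h2 hij
      exact Or.inr (Or.inr ⟨l, m, hlm, by rw [← mul_assoc]; exact e⟩)
  | mul_left x hx y hy ih =>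
    obtain ⟨k, rfl⟩ := hx
    rcases ih with rfl | ⟨i, rfl⟩ | ⟨i, j, hij, rfl⟩
    · exact Or.inr (Or.inl ⟨k, mul_one _⟩)
    · by_cases h : k = i
      · exact Or.inl (by rw [h, hexp])
      · exact Or.inr (Or.inr ⟨k, i, h, rfl⟩)
    · by_cases h1 : k = i
      · exact Or.inr (Or.inl ⟨j, by rw [h1, ← mul_assoc, hexp, one_mul]⟩)
      by_cases h2 : k = j
      · exact Or.inr (Or.inl ⟨i, by rw [h2, mul_comm (o i), ← mul_assoc, hexp, one_mul]⟩)
      obtain ⟨l, m, hlm, e⟩ := O.triple hexp h1 h2 hij
      exact Or.inr (Or.inr ⟨l, m, hlm, by rw [← mul_assoc]; exact e⟩)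

end orth

/-- a quadratic map between groups of exponent two -/
structure IsQuad {V R : Type*} [CommGroup V] [CommGroup R] (q : V → R) : Prop where
  expV : ∀ a : V, a * a = 1
  expR : ∀ a : R, a * a = 1
  cubic : ∀ u v w, q (u * v * w) = q (u * v) * q (u * w) * q (v * w) * q u * q v * q w

/-- the associated pairing -/
def pairing {V R : Type*} [Mul V] [Mul R] (q : V → R) (u v : V) : R := q (u * v) * q u * q v

section quad

variable {V R : Type*} [CommGroup V] [CommGroup R] {q : V → R} (hq : IsQuad q)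
include hq

theorem IsQuad.map_one' : q 1 = 1 := by
  have h := hq.cubic 1 1 1
  simp only [one_mul, mul_assoc, hq.expR, mul_one] at h
  exact h

theorem IsQuad.pairing_self (u : V) : pairing q u u = 1 := by
  rw [pairing, hq.expV, hq.map_one', one_mul, hq.expR]

theorem IsQuad.pairing_comm (u v : V) : pairing q u v = pairing q v u := by
  rw [pairing, pairing, mul_comm u v, mul_right_comm]

theorem IsQuad.pairing_mul (u v w : V) : pairing q (u * v) w = pairing q u w * pairing q v w := by
  have key : ∀ a b c d e f : R, f * f = 1 → a * b * c * d * e * f * a * f = b * d * f * (c * e * f) * (a * a) := by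
    intro a b c d e f h
    simp [mul_comm, mul_left_comm, mul_assoc]
  have e : ∀ a b c d e f : R, a * b * c * d * e * f * a * f = b * d * f * (c * e * f) := fun a b c d e f => by
    rw [key a b c d e f (hq.expR f), hq.expR, mul_one]
  unfold pairing
  rw [hq.cubic u v w]
  exact e _ _ _ _ _ _

theorem IsQuad.pairing_one (w : V) : pairing q 1 w = 1 := by
  rw [pairing, one_mul, hq.map_one', mul_one, hq.expR]

theorem IsQuad.mul_eq (u v : V) : q (u * v) = pairing q u v * q u * q v := by
  rw [pairing, mul_assoc _ (q u) (q v), mul_assoc (q (u * v) * q u), mul_assoc (q (u * v)),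
    ← mul_assoc (q v), mul_comm (q v) (q u), mul_assoc (q u) (q v), ← mul_assoc (q u) (q u), hq.expR, one_mul, hq.expR,
    mul_one]

theorem IsQuad.hom_of_gen {S : Set V} (hS : closure S = ⊤) (h : ∀ a ∈ S, ∀ b ∈ S, pairing q a b = 1) (u v : V) :
    q (u * v) = q u * q v := by
  have key : ∀ (w : V), (∀ a ∈ S, pairing q a w = 1) → ∀ x, pairing q x w = 1 := by
    intro w hw x
    have hx : x ∈ closure S := by rw [hS]; exact mem_top x
    induction hx using closure_induction with
    | mem a ha => exact hw a ha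
    | one => exact hq.pairing_one w
    | mul a b _ _ ha hb => rw [hq.pairing_mul, ha, hb, one_mul]
    | inv a _ ha => rw [Cfsg.Lib.SymSixSection.inv_self' hq.expV]; exact ha
  have h1 : ∀ a ∈ S, pairing q a v = 1 := fun a ha => by
    rw [hq.pairing_comm]
    exact key a (fun b hb => h b hb a ha) v
  rw [hq.mul_eq, key v h1 u, one_mul]

/-- the trivial target -/
theorem IsQuad.trivial_target [Finite V] {ρ : A5 →* MulAut V} (hle : Nat.card V ≤ 16) (hρ : Function.Injective ρ)
    (hinv : ∀ σ v, q (ρ σ v) = q v) (hne : ∃ v, q v ≠ 1) :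
    ∃ (o : Fin 5 → V) (b : R), Orthogonal ρ o ∧ b ≠ 1 ∧ (∀ i, q (o i) = 1) ∧
      (∀ i j, i ≠ j → q (o i * o j) = b) ∧ ∀ v, q v = 1 ∨ q v = b := by
  have hexp := hq.expV
  rcases dichotomy ρ hexp hle hρ with hN | ⟨o, O⟩
  · exfalso
    obtain ⟨v₀, hv₀⟩ := hne
    -- all non-trivial vectors have one value
    have hconst : ∀ v w : V, v ≠ 1 → w ≠ 1 → q v = q w := by
      intro v w hv hw
      obtain ⟨i, hi⟩ := hN.cover v
      obtain ⟨k, hk⟩ := hN.cover w
      obtain ⟨σ, hσ⟩ := exists_map i k
      have hv' := map_line ρ σ hi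
      rw [hσ] at hv'
      rw [← hinv σ v]
      obtain ⟨j, hkj⟩ := exists_ne k
      obtain ⟨g, hg, hg1, hgk, -, -⟩ := exists_three k j hkj.symm
      have hmv : ρ g w ≠ w := fun e => hw (by
        have hm : w ∈ fix (ρ g) := e
        rwa [hN.fix_three g hg hg1, Subgroup.mem_bot] at hm)
      obtain ⟨hall, -, -, -, -, -⟩ := Cfsg.Lib.SymSixSection.orbit_four hexp (hN.card_line k)
        (show ρ g ^ 3 = 1 by rw [← map_pow, hg, map_one])
        (fun y hy => by have := map_line ρ g hy; rwa [hgk] at this) hk hmv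
      rcases hall _ hv' with e | e | e | e
      · exact absurd ((ρ σ).injective (e.trans (map_one _).symm)) hv
      · rw [e]
      · rw [e, hinv]
      · rw [e, hinv, hinv]
    have hv₀1 : v₀ ≠ 1 := fun e => hv₀ (by rw [e, hq.map_one'])
    obtain ⟨x, y, z, hx, hy, hz, hxy, hxz, hyz, hxyz⟩ : ∃ x y z : V, x ≠ 1 ∧ y ≠ 1 ∧ z ≠ 1 ∧ x * y ≠ 1 ∧
        x * z ≠ 1 ∧ y * z ≠ 1 ∧ x * y * z ≠ 1 := by
      obtain ⟨⟨x, hx⟩, hx1⟩ := (Subgroup.ne_bot_iff_exists_ne_one.1 (line_ne_bot ρ hexp hle hρ 0))
      obtain ⟨⟨z, hz⟩, hz1⟩ := (Subgroup.ne_bot_iff_exists_ne_one.1 (line_ne_bot ρ hexp hle hρ 1))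
      have hx1' : x ≠ 1 := fun e => hx1 (Subtype.ext e)
      have hz1' : z ≠ 1 := fun e => hz1 (Subtype.ext e)
      obtain ⟨g, hg, hg1, hg0, -, -⟩ := exists_three 0 1 (by decide)
      have hy : ρ g x ∈ line ρ 0 := by have := map_line ρ g hx; rwa [hg0] at this
      have hyx : ρ g x ≠ x := fun e => hx1' (by
        have hm : x ∈ fix (ρ g) := e
        rwa [hN.fix_three g hg hg1, Subgroup.mem_bot] at hm)
      have hy1 : ρ g x ≠ 1 := fun e => hx1' ((ρ g).injective (e.trans (map_one _).symm))
      have hnot : ∀ u ∈ line ρ 0, u * z ≠ 1 := fun u hu e => by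
        have h2 : z ∈ line ρ 0 ⊓ line ρ 1 := Subgroup.mem_inf.2 ⟨by rw [eq_of_mul_one hexp e]; exact hu, hz⟩
        rw [line_inf ρ hexp hle hρ (by decide), Subgroup.mem_bot] at h2
        exact hz1' h2
      exact ⟨x, ρ g x, z, hx1', hy1, hz1', fun e => hyx (eq_of_mul_one hexp e), hnot x hx,
        hnot _ hy, hnot _ (mul_mem hx hy)⟩
    have h := hq.cubic x y z
    rw [hconst _ v₀ hxyz hv₀1, hconst _ v₀ hxy hv₀1, hconst _ v₀ hxz hv₀1, hconst _ v₀ hyz hv₀1,
      hconst _ v₀ hx hv₀1, hconst _ v₀ hy hv₀1, hconst _ v₀ hz hv₀1] at h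
    simp only [mul_assoc, hq.expR, mul_one] at h
    exact hv₀ h
  · refine ⟨o, q (o 0 * o 1), O, ?_⟩
    have ha : ∀ i, q (o i) = q (o 0) := fun i => by
      obtain ⟨σ, hσ⟩ := exists_map 0 i
      rw [← hinv σ (o 0), O.smul, hσ]
    have hb : ∀ i j, i ≠ j → q (o i * o j) = q (o 0 * o 1) := fun i j hij => by
      obtain ⟨σ, hσi, hσj⟩ := exists_map_pair 0 1 i j (by decide) hij
      rw [← hinv σ (o 0 * o 1), map_mul, O.smul, O.smul, hσi, hσj]
    have ha1 : q (o 0) = 1 := by
      obtain ⟨l, m, hlm, e⟩ := O.triple hexp (show (0 : Fin 5) ≠ 1 by decide) (show (0 : Fin 5) ≠ 2 by decide)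
        (show (1 : Fin 5) ≠ 2 by decide)
      have h := hq.cubic (o 0) (o 1) (o 2)
      rw [e, hb l m hlm, hb 0 2 (by decide), hb 1 2 (by decide), ha 1, ha 2] at h
      have : ∀ b a : R, b = b * b * b * a * a * a → a = 1 := by
        intro b a hh
        rw [hq.expR, one_mul, mul_assoc b a a, hq.expR, mul_one] at hh
        exact left_eq_mul.1 hh
      exact this _ _ h
    have hall : ∀ v, q v = 1 ∨ q v = q (o 0 * o 1) := fun v => by
      rcases O.cover hexp v with rfl | ⟨i, rfl⟩ | ⟨i, j, hij, rfl⟩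
      · exact Or.inl hq.map_one'
      · exact Or.inl ((ha i).trans ha1)
      · exact Or.inr (hb i j hij)
    refine ⟨fun e => ?_, fun i => (ha i).trans ha1, hb, hall⟩
    obtain ⟨v, hv⟩ := hne
    rcases hall v with h | h
    · exact hv h
    · exact hv (h.trans e)

/-- the target of order sixteen -/
theorem IsQuad.module_target [Finite V] [Finite R] {ρ : A5 →* MulAut V} {τ : A5 →* MulAut R}
    (hle : Nat.card V ≤ 16) (hρ : Function.Injective ρ) (hleR : Nat.card R ≤ 16) (hτ : Function.Injective τ)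
    (heq : ∀ σ v, q (ρ σ v) = τ σ (q v)) (hne : ∃ v, q v ≠ 1) :
    (∀ u v, q (u * v) = q u * q v) ∨ ∃ (L : Subgroup V) (u : R), Nat.card L = 4 ∧ ∀ x ∈ L, q x = 1 ∨ q x = u := by
  classical
  have hexp := hq.expV
  have hline : ∀ i, ∀ v ∈ line ρ i, q v ∈ line τ i := fun i v hv σ hσ => by rw [← heq, hv σ hσ]
  have hpe : ∀ σ u v, pairing q (ρ σ u) (ρ σ v) = τ σ (pairing q u v) := fun σ u v => by
    rw [pairing, pairing, map_mul, map_mul, ← heq, ← heq, ← heq, map_mul]
  rcases dichotomy ρ hexp hle hρ with hN | ⟨o, O⟩ <;> rcases dichotomy τ hq.expR hleR hτ with hM | ⟨r, P⟩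
  · left
    have same : ∀ i, ∀ a ∈ line ρ i, ∀ b ∈ line ρ i, pairing q a b = 1 := by
      intro i a ha b hb
      by_cases ha1 : a = 1
      · rw [ha1]; exact hq.pairing_one b
      obtain ⟨j, hij⟩ := exists_ne i
      obtain ⟨g, hg, hg1, hgi, -, -⟩ := exists_three i j hij.symm
      have hmv : ρ g a ≠ a := fun e => ha1 (by
        have hm : a ∈ fix (ρ g) := e
        rwa [hN.fix_three g hg hg1, Subgroup.mem_bot] at hm)
      obtain ⟨hall, hprod, -, -, -, -⟩ := Cfsg.Lib.SymSixSection.orbit_four hexp (hN.card_line i)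
        (show ρ g ^ 3 = 1 by rw [← map_pow, hg, map_one])
        (fun y hy => by have := map_line ρ g hy; rwa [hgi] at this) ha hmv
      have hgg : ρ g (ρ g a) = a * ρ g a := eq_of_mul_one hexp hprod
      have h0 : pairing q a (ρ g a) = 1 := by
        have hm : pairing q a (ρ g a) ∈ fix (τ g) := by
          show τ g _ = _
          rw [← hpe, hgg, hq.pairing_comm, hq.pairing_mul, hq.pairing_self, mul_one]
        rwa [hM.fix_three g hg hg1, Subgroup.mem_bot] at hm
      rcases hall b hb with e | e | e | e <;> rw [e]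
      · rw [hq.pairing_comm]; exact hq.pairing_one a
      · exact hq.pairing_self a
      · exact h0
      · rw [hgg, hq.pairing_comm, hq.pairing_mul, hq.pairing_self, one_mul, hq.pairing_comm]; exact h0
    have cross : ∀ i j, i ≠ j → ∀ a ∈ line ρ i, ∀ b ∈ line ρ j, pairing q a b = 1 := by
      intro i j hij
      obtain ⟨g, hg, hg1, hgi, hgj, hgk⟩ := exists_three i j hij
      have hinv : ∀ l, (g : Perm (Fin 5)) l = l → ∀ y ∈ line ρ l, ρ g y ∈ line ρ l := fun l hl y hy => by
        have := map_line ρ g hy; rwa [hl] at this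
      have g3 : ∀ x, ρ g (ρ g (ρ g x)) = x := fun x => by
        have := DFunLike.congr_fun (show ρ g ^ 3 = 1 by rw [← map_pow, hg, map_one]) x
        simpa [pow_succ] using this
      have hdec : Function.Bijective fun x : line ρ i × line ρ j => x.1.1 * x.2.1 := by
        refine (Nat.bijective_iff_injective_and_card _).2 ⟨?_, by
          rw [Nat.card_prod, hN.card_line, hN.card_line, card_eq ρ hexp hle hρ]⟩
        rintro ⟨⟨a, ha⟩, ⟨b, hb⟩⟩ ⟨⟨a', ha'⟩, ⟨b', hb'⟩⟩ (e : a * b = a' * b')
        have e1 : a'⁻¹ * a = b' * b⁻¹ := by rw [eq_mul_inv_iff_mul_eq, mul_assoc, e, inv_mul_cancel_left]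
        have e2 : a'⁻¹ * a ∈ line ρ i ⊓ line ρ j :=
          Subgroup.mem_inf.2 ⟨mul_mem (inv_mem ha') ha, by rw [e1]; exact mul_mem hb' (inv_mem hb)⟩
        rw [line_inf ρ hexp hle hρ hij, Subgroup.mem_bot] at e2
        obtain rfl : a = a' := (inv_mul_eq_one.1 e2).symm
        exact Prod.ext rfl (Subtype.ext (mul_left_cancel e))
      have no : ∀ {l m : Fin 5} {x : V}, l ≠ m → x ∈ line ρ l → x ∈ line ρ m → x = 1 := by
        intro l m x hlm h1 h2
        have : x ∈ line ρ l ⊓ line ρ m := Subgroup.mem_inf.2 ⟨h1, h2⟩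
        rwa [line_inf ρ hexp hle hρ hlm, Subgroup.mem_bot] at this
      -- one shifted value
      have shifted : ∀ a ∈ line ρ i, a ≠ 1 → ∀ b ∈ line ρ j, b ≠ 1 → pairing q a (ρ g (ρ g b)) = 1 := by
        intro a ha ha1 b hb hb1
        obtain ⟨k, hk⟩ := hN.cover (a * b)
        have hki : k ≠ i := fun e => by
          subst e
          exact hb1 (no hij (by simpa using mul_mem (inv_mem ha) hk) hb)
        have hkj : k ≠ j := fun e => by
          subst e
          exact ha1 (no hij ha (by simpa using mul_mem hk (inv_mem hb)))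
        have hga := hinv i hgi a ha
        -- the projection of the third line to the first
        let pr : line ρ k → line ρ i := fun x => ((Equiv.ofBijective _ hdec).symm x.1).1
        have hpr : ∀ x : line ρ k, (x : V) * (pr x : V) ∈ line ρ j := fun x => by
          have e : ((pr x : V)) * (((Equiv.ofBijective _ hdec).symm x.1).2 : V) = x :=
            (Equiv.ofBijective _ hdec).apply_symm_apply x.1
          rw [← e, mul_right_comm, hexp, one_mul]
          exact SetLike.coe_mem _
        have hprinj : Function.Injective pr := fun x y e => by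
          have h1 := mul_mem (hpr x) (hpr y)
          rw [e, mul_mul_mul_comm, hexp, mul_one] at h1
          exact Subtype.ext (eq_of_mul_one hexp (no hkj (mul_mem x.2 y.2) h1)).symm
        obtain ⟨x, hx⟩ := ((Nat.bijective_iff_injective_and_card pr).2
          ⟨hprinj, by rw [hN.card_line, hN.card_line]⟩).2 ⟨ρ g a, hga⟩
        set b1 := (x : V) * ρ g a
        have hb1j : b1 ∈ line ρ j := by have := hpr x; rwa [hx] at this
        have hxe : ρ g a * b1 = x := by simp only [b1]; rw [mul_comm, mul_assoc, hexp, mul_one]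
        have hb1k : ρ g a * b1 ∈ line ρ k := hxe ▸ x.2
        have hmv : ρ g b ≠ b := fun e => hb1 (by
          have hm : b ∈ fix (ρ g) := e
          rwa [hN.fix_three g hg hg1, Subgroup.mem_bot] at hm)
        have hb1e : b1 = ρ g (ρ g b) := by
          obtain ⟨hall, -, -, -, -, -⟩ := Cfsg.Lib.SymSixSection.orbit_four hexp (hN.card_line j)
            (show ρ g ^ 3 = 1 by rw [← map_pow, hg, map_one]) (hinv j hgj) hb hmv
          rcases hall b1 hb1j with e | e | e | e
          · rw [e, mul_one] at hb1k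
            exact absurd ((ρ g).injective ((no hki.symm hga hb1k).trans (map_one _).symm)) ha1
          · exfalso
            rw [e] at hb1k
            have h1 := mul_mem hk hb1k
            rw [mul_mul_mul_comm, hexp, mul_one] at h1
            have h2 := no hki.symm (mul_mem ha hga) h1
            exact ha1 (by
              have hm : a ∈ fix (ρ g) := eq_of_mul_one hexp h2
              rwa [hN.fix_three g hg hg1, Subgroup.mem_bot] at hm)
          · exfalso
            rw [e, ← map_mul] at hb1k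
            have h1 := no (Ne.symm (hgk k hki hkj)) hb1k (map_line ρ g hk)
            have h2 := (ρ g).injective (h1.trans (map_one _).symm)
            exact ha1 (no hij ha (by rw [← eq_of_mul_one hexp h2]; exact hb))
          · exact e
        have h1 := same k (a * b) hk _ hb1k
        have eA : pairing q a (ρ g a * b1) = pairing q a b1 := by
          rw [hq.pairing_comm, hq.pairing_mul, same i _ hga a ha, one_mul, hq.pairing_comm]
        have eB : pairing q b (ρ g a * b1) = pairing q (ρ g a) b := by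
          rw [hq.pairing_comm, hq.pairing_mul, same j _ hb1j b hb, mul_one]
        rw [hq.pairing_mul, eA, eB, hb1e] at h1
        have h2 : pairing q (ρ g a) b = pairing q a (ρ g (ρ g b)) := eq_of_mul_one hq.expR h1
        have hm : pairing q a (ρ g (ρ g b)) ∈ fix (τ g) := by
          show τ g _ = _
          rw [← hpe, g3]
          exact h2
        rwa [hM.fix_three g hg hg1, Subgroup.mem_bot] at hm
      intro a ha b hb
      by_cases ha1 : a = 1
      · rw [ha1]; exact hq.pairing_one b
      by_cases hb1 : b = 1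
      · rw [hb1, hq.pairing_comm]; exact hq.pairing_one a
      have hgb := hinv j hgj b hb
      have := shifted a ha ha1 (ρ g b) hgb fun e => hb1 ((ρ g).injective (e.trans (map_one _).symm))
      rwa [g3] at this
    refine hq.hom_of_gen (S := {v : V | ∃ i, v ∈ line ρ i}) (eq_top_iff.2 fun v _ => subset_closure (hN.cover v)) ?_
    rintro a ⟨i, ha⟩ b ⟨j, hb⟩
    by_cases hij : i = j
    · subst hij; exact same i a ha b hb
    · exact cross i j hij a ha b hb
  · right
    refine ⟨line ρ 0, r 0, hN.card_line 0, fun x hx => P.line_eq 0 _ (hline 0 x hx)⟩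
  · exfalso
    obtain ⟨v, hv⟩ := hne
    apply hv
    have hfix : ∀ i j x, i ≠ j → (∀ g : A5, (g : Perm (Fin 5)) i = i → (g : Perm (Fin 5)) j = j → ρ g x = x) →
        q x = 1 := by
      intro i j x hij h
      obtain ⟨g, hg, hg1, hgi, hgj, -⟩ := exists_three i j hij
      have hm : q x ∈ fix (τ g) := by
        show τ g _ = _
        rw [← heq, h g hgi hgj]
      rwa [hM.fix_three g hg hg1, Subgroup.mem_bot] at hm
    rcases O.cover hexp v with rfl | ⟨i, rfl⟩ | ⟨i, j, hij, rfl⟩
    · exact hq.map_one'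
    · obtain ⟨j, hj⟩ := exists_ne i
      exact hfix i j _ hj.symm fun g h1 _ => by rw [O.smul, h1]
    · exact hfix i j _ hij fun g h1 h2 => by rw [map_mul, O.smul, O.smul, h1, h2]
  · left
    have hval : ∀ i j, i ≠ j → pairing q (o i) (o j) = 1 ∨ pairing q (o i) (o j) = r i * r j := by
      intro i j hij
      obtain ⟨g, hg, hg1, hgi, hgj, -⟩ := exists_three i j hij
      obtain ⟨σ, hσi, hσj⟩ := exists_map_pair i j j i hij hij.symm
      have h1 : τ g (pairing q (o i) (o j)) = pairing q (o i) (o j) := by rw [← hpe, O.smul, O.smul, hgi, hgj]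
      have h2 : τ σ (pairing q (o i) (o j)) = pairing q (o i) (o j) := by
        rw [← hpe, O.smul, O.smul, hσi, hσj, hq.pairing_comm]
      rcases (P.fix_three g i j hg hg1 hij hgi hgj).2 _ h1 with e | e | e | e
      · exact Or.inl e
      · rw [e, P.smul, hσi] at h2
        exact absurd (P.inj h2) hij.symm
      · rw [e, P.smul, hσj] at h2
        exact absurd (P.inj h2) hij
      · exact Or.inr e
    by_cases h01 : pairing q (o 0) (o 1) = 1
    · refine hq.hom_of_gen O.gen ?_
      rintro _ ⟨i, rfl⟩ _ ⟨j, rfl⟩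
      by_cases hij : i = j
      · rw [hij]; exact hq.pairing_self _
      obtain ⟨σ, hσi, hσj⟩ := exists_map_pair 0 1 i j (by decide) hij
      rw [← hσi, ← hσj, ← O.smul, ← O.smul, hpe, h01, map_one]
    · exfalso
      have h01' := (hval 0 1 (by decide)).resolve_left h01
      have hall : ∀ j, (0 : Fin 5) ≠ j → pairing q (o 0) (o j) = r 0 * r j := by
        intro j hj
        obtain ⟨σ, hσi, hσj⟩ := exists_map_pair 0 1 0 j (by decide) hj
        conv_lhs => rw [← hσi, ← hσj, ← O.smul, ← O.smul, hpe, h01', map_mul, P.smul, P.smul, hσi, hσj]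
      have h4 : o 1 * o 2 * o 3 * o 4 = o 0 := by
        refine eq_of_mul_one hexp (a := o 0) ?_ |>.trans rfl
        rw [← O.prod_eq_one]; simp only [mul_assoc]
      have h5 : r 1 * r 2 * r 3 * r 4 = r 0 := by
        refine eq_of_mul_one hq.expR (a := r 0) ?_ |>.trans rfl
        rw [← P.prod_eq_one]; simp only [mul_assoc]
      have h := hq.pairing_self (o 0)
      nth_rewrite 1 [← h4] at h
      rw [hq.pairing_mul, hq.pairing_mul, hq.pairing_mul, hq.pairing_comm (o 1), hq.pairing_comm (o 2),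
        hq.pairing_comm (o 3), hq.pairing_comm (o 4), hall 1 (by decide), hall 2 (by decide), hall 3 (by decide),
        hall 4 (by decide)] at h
      have e : ∀ a b c d x : R, x * a * (x * b) * (x * c) * (x * d) = a * b * c * d := fun a b c d x => by
        have : x * a * (x * b) * (x * c) * (x * d) = a * b * c * d * ((x * x) * (x * x)) := by
          simp [mul_comm, mul_left_comm, mul_assoc]
        rw [this, hq.expR, mul_one]
      rw [e, h5] at h
      exact P.ne_one 0 h

end quad

end Cfsg.Lib.AltFiveRadical
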